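import Mathlib
import Cfsg.Agent.O8C.InvD
import Cfsg.Agent.Inv.Count

/-!
# The embedding of `Ω₈⁺(2)` is onto
-/

set_option autoImplicit false

namespace Cfsg.Agent.O8C

open Subgroup Cfsg.Agent.TT Cfsg.Agent.LES Cfsg.Agent.XSC Cfsg.Agent.Comp.BN

variable {G : Type*} [Group G]

theorem fix_of {H : Subgroup G} {u : G} (h : ∀ g, g⁻¹ * u * g ∈ H → g ∈ H) (a b : G ⧸ H)
    (ha : u • a = a) (hb : u • b = b) : a = b := by
  have k : ∀ g : G, u • (g : G ⧸ H) = g → g ∈ H := fun g e => h g (by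
    simpa [mul_assoc] using QuotientGroup.eq.1 (e.symm : (g : G ⧸ H) = ((u * g : G) : G ⧸ H)))
  obtain ⟨g, rfl⟩ := QuotientGroup.mk_surjective a
  obtain ⟨g', rfl⟩ := QuotientGroup.mk_surjective b
  exact QuotientGroup.eq.2 (mul_mem (inv_mem (k g ha)) (k g' hb))

theorem card_mul_le [Finite G] {A B J : Subgroup G} (hA : A ≤ J) (hB : B ≤ J) :
    Nat.card A * Nat.card B ≤ Nat.card J * Nat.card (A ⊓ B : Subgroup G) := by
  have h1 := (A.subgroupOf J).card_mul_index
  have h2 := (A.subgroupOf B).card_mul_index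
  have h3 : (A.subgroupOf B).index ≤ (A.subgroupOf J).index :=
    relIndex_le_of_le_right (H := A) hB index_ne_zero_of_finite
  rw [Nat.card_congr (subgroupOfEquivOfLe hA).toEquiv] at h1
  rw [← inf_subgroupOf_right, Nat.card_congr (subgroupOfEquivOfLe inf_le_right).toEquiv,
    inf_subgroupOf_right] at h2
  rw [← h1, ← h2, mul_assoc, mul_comm (Nat.card (A ⊓ B : Subgroup G))]
  gcongr

theorem Hyp.card_cent2 [Finite G] {Q : Subgroup G} {z : G} {π : G → T3} (h : Hyp Q z π) {u : G}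
    (hu : u ∈ Q) (hc : IsConj z u) (hne : u ≠ z) :
    2048 ≤ Nat.card (centralizer {z} ⊓ centralizer {u} : Subgroup G) := by
  obtain ⟨g, rfl⟩ := isConj_iff.1 hc
  have p := h.lx.pair hu hne (h.lx.mem_map_conj_of_card (by rw [h.card]; norm_num) hu)
  have hP := (card_map_conj Q g).trans h.card
  have h1 := card_P_eq p
  have h2 := h.lx.toXS.card_centralizer hu p.hP.z_ne hne
  have h3 := (h.exists_a p hP).1
  have h4 := card_mul_le (J := centralizer {z} ⊓ centralizer {g * z * g⁻¹})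
    (inf_le_inf_right _ (LX_le_centralizer h.lx))
    (le_inf inf_le_right (inf_le_left.trans (LX_le_centralizer p.hP)) :
      Q.map (MulAut.conj g).toMonoidHom ⊓ centralizer {z} ≤ _)
  have h5 := card_le_of_le (inf_le_inf inf_le_left inf_le_left : (Q ⊓ centralizer {g * z * g⁻¹}) ⊓
    (Q.map (MulAut.conj g).toMonoidHom ⊓ centralizer {z}) ≤ _)
  rw [h.card] at h2
  rw [hP] at h1
  rw [h3] at h5
  nlinarith

section
variable [Finite G] {θ : Mo →* G} (inj : Function.Injective θ)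
  (hC : centralizer {θ (ev m [8])} ≤ θ.range)
  (hH : ∀ u ∈ θ.range, IsConj (θ (ev m [8])) u → ∀ g, g⁻¹ * u * g ∈ θ.range → g ∈ θ.range)
include inj hC hH

theorem cent_le {w : Mo} (h : WF w) (hz : orderOf (θ (ev m [8])) = 2) :
    centralizer {θ w} ≤ θ.range := by
  obtain ⟨h1, h2, h3, h4, h5, h6⟩ := h
  generalize ev m [8] = ζ at *
  have mK : ∀ a, θ a ∈ centralizer {θ w} ↔ a ∈ centralizer {w} := fun a => by
    rw [mem_centralizer_singleton_iff, mem_centralizer_singleton_iff, ← map_mul, ← map_mul, inj.eq_iff]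
  let z : centralizer {θ w} := ⟨θ ζ, (mK ζ).2 (mem_centralizer_singleton_iff.2 h1)⟩
  have kH : ∀ k : centralizer {θ w}, (k * z * k⁻¹).1 ∈ θ.range → k.1 ∈ θ.range := fun k hk =>
    inv_mem_iff.1 (hH _ ⟨ζ, rfl⟩ (IsConj.refl _) k.1⁻¹ (by rwa [inv_inv]))
  refine subgroupOf_eq_top.1 (eq_top_of_odd (z := z) (by rw [← Subgroup.orderOf_coe]; exact hz)
    (fun g hg => hC (mem_centralizer_singleton_iff.2
      (congrArg Subtype.val (mem_centralizer_singleton_iff.1 hg)))) (fun x hx e => ?_)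
    (fun y e hc hne => fix_of fun g hg => ?_) fun O hO ho e => ?_)
  · obtain ⟨k, rfl⟩ := isConj_iff.1 e
    exact ⟨k, kH k hx, rfl⟩
  · obtain ⟨k, rfl⟩ := isConj_iff.1 e
    obtain ⟨c, e1⟩ := kH k (hC (mem_centralizer_singleton_iff.2 (congrArg Subtype.val hc.symm.eq)))
    have e2 : (z * (k * z * k⁻¹)).1 = θ (ζ * (c * ζ * c⁻¹)) := by simp [z, e1]
    replace hg : g.1⁻¹ * θ (ζ * (c * ζ * c⁻¹)) * g ∈ θ.range := e2 ▸ hg
    rcases h5 _ ⟨c, (mK c).1 (e1 ▸ k.2), rfl⟩ with e3 | e3 | e3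
    · exact absurd (Subtype.ext (by simpa [z, e1] using congrArg θ e3)) hne
    · exact hH _ ⟨_, rfl⟩ (θ.map_isConj e3) g hg
    · refine hH _ ⟨_, rfl⟩ (θ.map_isConj e3) g ?_
      rw [map_mul, mul_assoc, mul_assoc, ← mem_centralizer_singleton_iff.1 g.2, ← mul_assoc, ← mul_assoc]
      exact mul_mem hg ⟨w, rfl⟩
  · have e1 : Subtype.val '' Cl (θ.range.subgroupOf (centralizer {θ w})) z =
        θ '' Cl (centralizer {w}) ζ := by
      refine Set.Subset.antisymm ?_ ?_
      · rintro _ ⟨_, ⟨k, ⟨c, e1⟩, rfl⟩, rfl⟩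
        have e2 : θ c = k := e1
        exact ⟨_, ⟨c, (mK c).1 (e2 ▸ k.2), rfl⟩, by simp [z, e2]⟩
      · rintro _ ⟨_, ⟨c, hc, rfl⟩, rfl⟩
        exact ⟨_, ⟨⟨θ c, (mK c).2 hc⟩, ⟨c, rfl⟩, rfl⟩, by simp [z]⟩
    rw [← Set.ncard_image_of_injective _ Subtype.val_injective, e1, Set.ncard_image_of_injective _ inj,
      h4] at e
    have e2 : Nat.card ((O.map (Subgroup.subtype _)).comap θ) = Nat.card O := by
      rw [← card_map_of_injective inj, map_comap_eq_self (map_le_iff_le_comap.2 hO), card_subtype]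
    refine h6 _ (fun a ha => (mK a).1 ?_) (e2 ▸ ho) (e2 ▸ e)
    exact map_subtype_le O ha

end

theorem Hyp.surj' [Finite G] {Q : Subgroup G} {z : G} {π : G → T3} (h : Hyp Q z π) {θ : Mo →* G}
    (inj : Function.Injective θ) (hz : θ (ev m [8]) = z) (hC : centralizer {z} ≤ θ.range)
    (he : θ (ev m [1, 2, 4]) ∈ Q) (hM : MF) : θ.range = ⊤ := by
  subst hz
  have oz := h.lx.toXS.orderOf_z
  have c1 := card_cl ⊤ (ev m [8])
  rw [card_top, card_Mo, top_inf_eq, hM.card] at c1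
  have c2 := (centralizer ({ev m [8]} : Set Mo)).card_mul_index
  rw [card_Mo, hM.card] at c2
  have cC := fun x => exists_conj_of_odd (C := centralizer {ev m [8]}) (x := x)
    (by rw [show index _ = 1575 by omega]; decide)
  have cl := fun g => inv_C hM invAll (g := g)
  have hw : ∀ a, Wc a → ∃ w, WF w ∧ IsConj w a := fun a ha =>
    ha.elim (⟨_, wf0 hM, ·⟩) fun ha => ha.elim (⟨_, wf1 hM, ·⟩) (⟨_, wf2 hM, ·⟩)
  have c3 := card_cl (centralizer {ev m [8]}) (ev m [1, 2, 4])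
  have c4 := (cl_list orc m_inv (L := centralizer {ev m [8]}) (fun g hg => (orc.cent _ _).1
    ((allL_eq _ _).1 (by decide +kernel : allL (fun g => comC val g [8]) gs18 = true) g hg)) ce).1
  have c5 : ev m [1, 2, 4] ≠ ev m [8] := orc.ne (by decide +kernel)
  rw [hM.card] at c3
  rw [show Le.length = 108 by decide +kernel] at c4
  have cw := fun hH w (h1 : WF w) => cent_le inj hC hH h1 oz
  generalize ev m [8] = ζ, ev m [1, 2, 4] = ε at *
  have nw : ∀ a, Wc a → ¬ IsConj (θ ζ) (θ a) := fun a ha e => by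
    obtain ⟨w, h1, h2⟩ := hw a ha
    have := h1.five.trans (card_map_of_injective inj ▸ card_dvd_of_le
      (map_centralizer_le_centralizer_image {w} θ))
    rw [Set.image_singleton, Inv.Count.card_centralizer_of_isConj ((θ.map_isConj h2).trans e.symm),
      h.card_cent] at this
    norm_num at this
  have ne : ¬ IsConj (θ ζ) (θ ε) := fun e => by
    have h1 := h.card_cent2 he e (inj.ne c5)
    have h2 := card_le_of_le (show centralizer {θ ζ} ⊓ centralizer {θ ε} ≤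
        (centralizer {ζ} ⊓ centralizer {ε}).map θ from fun g hg => by
      obtain ⟨a, rfl⟩ := hC hg.1
      refine ⟨a, ⟨?_, ?_⟩, rfl⟩ <;> refine mem_centralizer_singleton_iff.2 (inj ?_) <;>
        rw [map_mul, map_mul]
      exacts [mem_centralizer_singleton_iff.1 hg.1, mem_centralizer_singleton_iff.1 hg.2])
    rw [card_map_of_injective inj] at h2
    nlinarith
  have sq : ∀ a, IsConj (θ ζ) (θ a) → a * a = 1 := fun a e => by
    obtain ⟨g, e⟩ := isConj_iff.1 e
    exact inj (by rw [map_mul, ← e, conj_mul, h.lx.z_sq]; simp)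
  have cl' : ∀ a, a * ζ = ζ * a → IsConj (θ ζ) (θ a) →
      a = ζ ∨ IsConj ζ a ∧ (IsConj ζ (ζ * a) ∨ Wc (ζ * a)) := fun a ha e => by
    rcases cl a ha (sq a e) with e1 | e1 | e1 | e1 | e1
    · exact absurd (isConj_one_left.1 (by rwa [e1, map_one] at e)) h.lx.z_ne
    exacts [Or.inl e1, Or.inr e1, absurd e (nw a e1), absurd (e.trans (θ.map_isConj e1).symm) ne]
  have hf : ∀ x ∈ θ.range, IsConj (θ ζ) x → ∃ k ∈ θ.range, k * θ ζ * k⁻¹ = x := by
    rintro _ ⟨a, rfl⟩ e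
    obtain ⟨g, hg⟩ := cC a (sq a e)
    have e1 : IsConj a (g * a * g⁻¹) := isConj_iff.2 ⟨g, rfl⟩
    obtain ⟨k, rfl⟩ := isConj_iff.1 (((cl' _ (mem_centralizer_singleton_iff.1 hg)
      (e.trans (θ.map_isConj e1))).elim (fun e => e ▸ IsConj.refl _) And.left).trans e1.symm)
    exact ⟨θ k, ⟨k, rfl⟩, by simp⟩
  have hH : ∀ u ∈ θ.range, IsConj (θ ζ) u → ∀ g, g⁻¹ * u * g ∈ θ.range → g ∈ θ.range :=
    fun u hu e g hg => by
      have := fix_unique hC hf e (g : G ⧸ θ.range) (1 : G)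
        (QuotientGroup.eq.2 (by simpa [mul_assoc] using hg)).symm
        (QuotientGroup.eq.2 (by simpa using hu)).symm
      simpa using QuotientGroup.eq.1 this
  refine eq_top_of_odd oz hC hf (fun y e hc hne => fix_of fun g hg => ?_) fun O hO ho e => ?_
  · obtain ⟨a, rfl⟩ := hC (mem_centralizer_singleton_iff.2 hc.symm.eq)
    rw [← map_mul] at hg
    rcases cl' a (inj (by rw [map_mul, map_mul, hc.eq])) e with e1 | ⟨-, e1 | e1⟩
    · exact absurd (congrArg θ e1) hne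
    · exact hH _ ⟨_, rfl⟩ (θ.map_isConj e1) g hg
    obtain ⟨w, h1, h2⟩ := hw _ e1
    obtain ⟨k, e2⟩ := isConj_iff.1 h2
    obtain ⟨b, e3⟩ := hg
    have e4 : θ b = (g⁻¹ * θ k) * θ w * (g⁻¹ * θ k)⁻¹ := by
      rw [e3, ← e2]; simp [mul_assoc]
    obtain ⟨c, hc⟩ := cC b (inj (by rw [map_mul, e4, conj_mul, ← map_mul, h1.sq]; simp))
    have e5 := congrArg θ (mem_centralizer_singleton_iff.1 hc)
    simp only [map_mul, map_inv, e4] at e5
    have e6 := hH _ ⟨ζ, rfl⟩ (IsConj.refl _) (θ c * (g⁻¹ * θ k)) (cw hH w h1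
      (mem_centralizer_singleton_iff.2 (by
        calc _ = (θ c * (g⁻¹ * θ k))⁻¹ * (θ ζ * (θ c * (g⁻¹ * θ k * θ w * (g⁻¹ * θ k)⁻¹) * (θ c)⁻¹)) *
              (θ c * (g⁻¹ * θ k)) := by group
          _ = _ := by rw [← e5]; group)))
    rwa [mul_mem_cancel_left (show θ c ∈ θ.range from ⟨c, rfl⟩),
      mul_mem_cancel_right (show θ k ∈ θ.range from ⟨k, rfl⟩), inv_mem_iff] at e6
  · have e1 : Cl θ.range (θ ζ) = θ '' Cl ⊤ ζ := by
      refine Set.Subset.antisymm ?_ ?_
      · rintro _ ⟨_, ⟨c, rfl⟩, rfl⟩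
        exact ⟨_, ⟨c, mem_top c, rfl⟩, by simp⟩
      · rintro _ ⟨_, ⟨c, -, rfl⟩, rfl⟩
        exact ⟨_, ⟨c, rfl⟩, by simp⟩
    rw [e1, Set.ncard_image_of_injective _ inj, show Set.ncard _ = 175 * 9 by omega] at e
    have e2 : Nat.card (O.comap θ) = Nat.card O := by
      rw [← card_map_of_injective inj, map_comap_eq_self hO]
    rw [← e2] at ho e
    generalize O.comap θ = O at ho e
    have := S0205.result ho
    obtain ⟨n, hn⟩ := (dvd_mul_right 175 9).trans e
    have e3 := card_subgroup_dvd_card O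
    rw [card_Mo, hn] at e3
    obtain ⟨K, -, hk⟩ := Solv.exists_hall_in hn (Nat.Coprime.coprime_dvd_right
      (Nat.dvd_of_mul_dvd_mul_left (k := 175) (n := 995328) (by norm_num) e3) (by norm_num))
    obtain ⟨x, y, hx, hy, hc⟩ := exists_commute (K := K) (p := 7) (q := 5) (n := 25) (by norm_num)
      Nat.prime_five hk (by norm_num) (by norm_num) (by norm_num) fun d hd e => by
        have := Nat.le_of_dvd (by norm_num) hd
        rw [Nat.ModEq] at e
        interval_cases d <;> omega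
    exact no35 ((Subgroup.orderOf_coe x).trans hx) ((Subgroup.orderOf_coe y).trans hy) (hc.map K.subtype)

end Cfsg.Agent.O8C
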