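import Mathlib
import Cfsg.Agent.XSC.DC

/-!
# Graphs over large extraspecial subgroups and over involution centralisers
-/

set_option autoImplicit false

namespace Cfsg.Agent.O8C

open Subgroup Cfsg.Agent.TT Cfsg.Agent.LES Cfsg.Agent.XSC Cfsg.Agent.Comp.BN

variable {G M : Type*} [Group G] [Group M]

theorem card_genW_ge [Finite G] {Q : Subgroup G} {x : ℕ → G} {c : List ℕ} (h : XS Q (ev x c))
    {l : List (List ℕ)} (hn : l.Nodup) (hl : ∀ w ∈ l, ev x w ∈ Q)
    (hd : ∀ w ∈ l, ∃ v ∈ Q, v * ev x w ≠ ev x w * v ∧ ∀ w' ∈ l, w' ≠ w → ev x w' * v = v * ev x w') :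
    2 ^ (l.length + 1) ≤ Nat.card (genW x (c :: l)) := by
  induction l with
  | nil =>
    have := card_le_of_le (zpowers_le_of_mem (mem_genW (x := x) (ws := [c]) List.mem_cons_self))
    rwa [Nat.card_zpowers, h.orderOf_z] at this
  | cons w l ih =>
    rw [List.nodup_cons] at hn
    have h1 := ih hn.2 (fun a ha => hl a (List.mem_cons_of_mem _ ha)) fun a ha => by
      obtain ⟨v, h1, h2, h3⟩ := hd a (List.mem_cons_of_mem _ ha)
      exact ⟨v, h1, h2, fun b hb => h3 b (List.mem_cons_of_mem _ hb)⟩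
    obtain ⟨v, h2, h3, h4⟩ := hd w List.mem_cons_self
    have h5 := h.card_sup_zpowers (A := genW x (c :: l)) (genW_le fun a ha => by
      rcases List.mem_cons.1 ha with rfl | ha
      exacts [h.z_mem, hl a (List.mem_cons_of_mem _ ha)]) (mem_genW List.mem_cons_self)
      (hl w List.mem_cons_self) fun e => h3 (comm_genW (fun a ha => by
        rcases List.mem_cons.1 ha with rfl | ha
        · exact (h.z_comm v h2).symm
        · exact h4 a (List.mem_cons_of_mem _ ha) fun e => hn.1 (e ▸ ha)) e).symm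
    have h6 : genW x (c :: l) ⊔ zpowers (ev x w) ≤ genW x (c :: w :: l) :=
      sup_le (genW_mono fun a ha => by
        rcases List.mem_cons.1 ha with rfl | ha <;> simp [*]) (zpowers_le_of_mem (mem_genW (by simp)))
    have := card_le_of_le h6
    rw [List.length_cons, pow_succ]
    omega

/-- the model side of a frame with a duality -/
noncomputable def frC (val : List ℕ → ℕ) (c : ℕ) (ls : List ℕ) (du : ℕ → ℕ) : Bool :=
  band (band (eqC val [c, c] []) (neC val [c] []))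
    (allL (fun i => band (band (eqC val [i, i] []) (eqC val [i, c] [c, i]))
      (allL (fun j => bif' (Nat.beq j (du i)) (eqC val [i, j] [j, i, c]) (eqC val [i, j] [j, i])) ls)) ls)

theorem dl_of_frame [Finite G] [Finite M] {Q : Subgroup G} {z : G} (h : LX Q z) {t : ℕ → G × M}
    {m : ℕ → M} {val : List ℕ → ℕ} (hm : ∀ k, (t k).2 = m k) (orc : Orc m val) {c : ℕ} {ls : List ℕ}
    {du : ℕ → ℕ} (hz : (t c).1 = z) (hq : ∀ i ∈ ls, (t i).1 ∈ Q ∧ (t i).1 * (t i).1 = 1)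
    (hcm : ∀ i ∈ ls, ∀ j ∈ ls, (t i).1 * (t j).1 = (t j).1 * (t i).1 ↔ j ≠ du i)
    (hn : ls.Nodup ∧ ∀ i ∈ ls, du i ∈ ls ∧ du (du i) = i) (hc : Nat.card Q = 2 ^ (ls.length + 1))
    (e : frC val c ls du = true) {l : List (List ℕ)} (hl : l = ls.map fun i => [i]) :
    Dl Q z (genW t ([c] :: l)) (t c) ∧ XG t [c] l := by
  simp only [frC, band_eq, allL_eq] at e
  obtain ⟨⟨a1, a2⟩, a3⟩ := e
  have ml : ∀ w ∈ l, ∃ i ∈ ls, [i] = w := fun w hw => List.mem_map.1 (hl ▸ hw)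
  have xg : XG t [c] l := by
    refine ⟨Prod.ext ?_ ?_, fun w hw => ?_, fun w hw => ?_, fun w hw v hv => ?_⟩
    · simpa [hz] using h.z_sq
    · simpa [hm] using orc.eq a1
    · obtain ⟨i, hi, rfl⟩ := ml w hw
      refine Prod.ext ?_ ?_
      · simpa [hz] using h.z_comm _ (hq i hi).1
      · simpa [hm] using orc.eq (a3 i hi).1.2
    · obtain ⟨i, hi, rfl⟩ := ml w hw
      refine Or.inl (Prod.ext ?_ ?_)
      · simpa using (hq i hi).2
      · simpa [hm] using orc.eq (a3 i hi).1.1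
    · obtain ⟨i, hi, rfl⟩ := ml w hw
      obtain ⟨j, hj, rfl⟩ := ml v hv
      have a4 := (a3 i hi).2 j hj
      have a5 := hcm i hi j hj
      simp only [bif'_eq, Nat.beq_eq] at a4
      split_ifs at a4 with e
      · refine Or.inr (Prod.ext ?_ ?_)
        · simpa [hz] using h.toXS.comm_of_ne (hq i hi).1 (hq j hj).1 fun e' => a5.1 e' e
        · simpa [hm, mul_assoc] using orc.eq a4
      · refine Or.inl (Prod.ext ?_ ?_)
        · simpa using a5.2 e
        · simpa [hm] using orc.eq a4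
  have hle : (genW t ([c] :: l)).map (MonoidHom.fst G M) ≤ Q := by
    rw [map_le_iff_le_comap]
    refine genW_le fun W hW => ?_
    rcases List.mem_cons.1 hW with rfl | hW
    · simpa [hz] using h.z_mem
    · obtain ⟨i, hi, rfl⟩ := ml W hW
      simpa using (hq i hi).1
  have hlen : l.length = ls.length := by simp [hl]
  refine ⟨dl_of_card h hz (by simpa using mem_genW (x := t) (W := [c]) List.mem_cons_self)
    (by simpa [hm] using orc.ne a2) (eq_of_le_of_card_ge hle ?_) (hc ▸ hlen ▸ xg.card_le), xg⟩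
  rw [map_genW, hc, ← hlen]
  refine card_genW_ge (Q := Q) (by simpa [hz] using h.toXS)
    (hl ▸ hn.1.map fun a b e => by simpa using e) (fun w hw => ?_) fun w hw => ?_
  · obtain ⟨i, hi, rfl⟩ := ml w hw
    simpa using (hq i hi).1
  · obtain ⟨i, hi, rfl⟩ := ml w hw
    obtain ⟨b1, b2⟩ := hn.2 i hi
    refine ⟨(t (du i)).1, (hq _ b1).1, fun e => (hcm _ b1 i hi).1 (by simpa using e) b2.symm,
      fun w' hw' hne => ?_⟩
    obtain ⟨j, hj, rfl⟩ := ml w' hw'
    simpa using ((hcm _ b1 j hj).2 fun e => hne (by rw [e, b2])).symm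

theorem exists_adj [Finite G] [Finite M] {Q : Subgroup G} {z : G} {t : ℕ → G × M}
    {ws : List (List ℕ)} {ζ : G × M} (h : Dl Q z (genW t ws) ζ) {c : G} (hc : c * z = z * c) {u : M}
    (hu : u * ζ.2 = ζ.2 * u)
    (hn : ∀ W ∈ ws, ∃ δ ∈ genW t ws, δ.2 = u * (ev t W).2 * u⁻¹ ∧ Eqv z (c * (ev t W).1 * c⁻¹) δ.1) :
    ∃ y ∈ Q, (c * y, u) ∈ normalizer (genW t ws : Set (G × M)) := by
  have zz := h.lx.z_sq
  have h1 : ∀ γ ∈ genW t ws, ∃ δ ∈ genW t ws, δ.2 = u * γ.2 * u⁻¹ ∧ Eqv z (c * γ.1 * c⁻¹) δ.1 := by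
    intro γ hγ
    induction hγ using closure_induction'' with
    | one => exact ⟨1, one_mem _, by simp, by simpa using Eqv.refl z 1⟩
    | mem γ hγ => obtain ⟨W, hW, rfl⟩ := hγ; exact hn W hW
    | inv_mem γ hγ =>
      obtain ⟨W, hW, rfl⟩ := hγ
      obtain ⟨δ, h1, h2, h3⟩ := hn W hW
      refine ⟨δ⁻¹, inv_mem h1, by simp [h2, mul_assoc], ?_⟩
      have h4 := comm_inv_left (h.lx.z_comm _ (h.fst_mem h1))
      rcases h3 with e | e
      · exact Or.inl (by simp [← e, mul_assoc])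
      · refine Or.inr ?_
        rw [Prod.fst_inv, Prod.fst_inv, h4, ← h.lx.toXS.z_inv, ← mul_inv_rev, ← e]
        group
    | mul γ γ' _ _ a b =>
      obtain ⟨δ, h1, h2, h3⟩ := a
      obtain ⟨δ', h4, h5, h6⟩ := b
      refine ⟨δ * δ', mul_mem h1 h4, by simp [h2, h5], ?_⟩
      have := eqv_mul h.lx.toXS (h.fst_mem h4) h3 h6
      simpa [mul_assoc] using this
  choose d hd1 hd2 using fun a : Q => h.exists_of_mem a.2
  choose f hf1 hf2 hf3 using h1
  have c1 := comm_inv_left hc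
  let φ : Q →* Q := MonoidHom.mk' (fun a => ⟨c⁻¹ * (f (d a) (hd1 a)).1 * c⁻¹⁻¹,
      h.lx.norm _ c1 _ (h.fst_mem (hf1 _ _))⟩) fun a b => by
    have e1 : d (a * b) = d a * d b := h.gl.eq (hd1 _) (mul_mem (hd1 a) (hd1 b)) (by simp [hd2])
    have e2 := h.gr.eq (hf1 _ (hd1 (a * b))) (mul_mem (hf1 _ (hd1 a)) (hf1 _ (hd1 b)))
      (by simp [hf2, e1])
    exact Subtype.ext (by simp [e2, mul_assoc])
  obtain ⟨y, -, hy⟩ := h.lx.toXS.top.exists_inner φ (Subtype.ext (by
    have e1 : d ⟨z, h.lx.z_mem⟩ = ζ := h.gl.eq (hd1 _) h.mem (by rw [hd2, h.hz])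
    have e2 := h.gr.eq (hf1 _ (hd1 ⟨z, h.lx.z_mem⟩)) h.mem (by rw [hf2, e1, hu, mul_inv_cancel_right])
    change c⁻¹ * _ * _ = z
    rw [e2, h.hz, conj_eq_of_comm c1])) fun a _ => by
      have := ((hf3 _ (hd1 a)).symm zz).conj c1
      rw [hd2, show c⁻¹ * (c * a * c⁻¹) * c⁻¹⁻¹ = a by group] at this
      exact this.imp Subtype.ext Subtype.ext
  refine ⟨y, y.2, mem_normalizer_fintype fun δ hδ => ?_⟩
  have e1 : d ⟨δ.1, h.fst_mem hδ⟩ = δ := h.gl.eq (hd1 _) hδ (hd2 _)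
  have e2 := congrArg Subtype.val (hy ⟨δ.1, h.fst_mem hδ⟩ trivial)
  have : (c * y, u) * δ * (c * y, u)⁻¹ = f _ (hd1 ⟨δ.1, h.fst_mem hδ⟩) := by
    refine Prod.ext ?_ (by rw [hf2, e1]; rfl)
    change c⁻¹ * _ * c⁻¹⁻¹ = (y : G) * δ.1 * (y : G)⁻¹ at e2
    change c * y * δ.1 * (c * y)⁻¹ = _
    rw [show c * y * δ.1 * (c * y)⁻¹ = c * (y * δ.1 * (y : G)⁻¹) * c⁻¹ by group, ← e2]
    group
  rw [this]; exact hf1 _ _

/-- a graph whose first projection is an isomorphism onto the centraliser of `z` -/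
structure CO (z : G) (t : ℕ → G × M) (S : ℕ) : Prop where
  gr : Gr (genOn t S)
  gl : Gl (genOn t S)
  onto : ∀ g, g * z = z * g → ∃ γ ∈ genOn t S, γ.1 = g
  cent : ∀ γ ∈ genOn t S, γ.1 * z = z * γ.1

variable {z : G} {t : ℕ → G × M} {S : ℕ} {m : ℕ → M} {val : List ℕ → ℕ} {I : ℕ → ℕ}

theorem CO.card_le [Finite G] (h : CO z t S) :
    Nat.card (genOn t S) ≤ Nat.card (centralizer ({z} : Set G)) := Nat.card_le_card_of_injective
  (fun γ : genOn t S => (⟨γ.1.1, mem_centralizer_singleton_iff.2 (h.cent _ γ.2)⟩ :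
    centralizer ({z} : Set G))) fun a b e => Subtype.ext (h.gl.eq a.2 b.2 (congrArg Subtype.val e))

theorem CO.cent_le [Finite G] [Finite M] (h : CO z t S) (o : Ov t m val I) {bs : List (List ℕ)}
    {n cC : ℕ} (hl : Lev t S bs n) (hc : Nat.card (centralizer ({z} : Set G)) = cC)
    {ts Us : List (List ℕ)} (e : centC val S bs ts Us n cC = true) {g : G} (hz : g * z = z * g)
    (hb : ∀ b ∈ bs, g * (ev t b).1 = (ev t b).1 * g) : ∃ U ∈ Us, (ev t (subst ts U)).1 = g := by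
  simp only [centC, band_eq, Nat.blt_eq] at e
  obtain ⟨e1, e2, e3⟩ := e
  obtain ⟨γ, hγ, rfl⟩ := h.onto g hz
  have hb' : ∀ b ∈ bs, ev t b ∈ genOn t S := fun b hb =>
    ev_mem_genOn ((allL_eq _ _).1 ((band_eq _ _).1 e1).1 b hb)
  have h1 : γ ∈ CC t S bs := mem_CC.2 ⟨hγ, fun b hb0 =>
    h.gl.eq (mul_mem hγ (hb' b hb0)) (mul_mem (hb' b hb0) hγ) (hb b hb0)⟩
  have h3 : Nat.card (CC t S bs) ≤ Us.length :=
    Nat.lt_succ_iff.1 (Nat.lt_of_mul_lt_mul_left ((hl.trans (hc ▸ h.card_le)).trans_lt e3))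
  classical
  have h4 : (Us.map fun U => ev t (subst ts U)).Nodup := by
    refine List.Nodup.of_map (fun γ : G × M => valM m val γ.2) ?_
    rw [List.map_map]
    convert (incC_spec e2).2 using 2
    funext U
    exact (congrArg _ (o.snd_ev _)).trans (o.orc.valM_ev _)
  have h5 : ((Us.map fun U => ev t (subst ts U)).toFinset : Set (G × M)) = CC t S bs := by
    refine Set.eq_of_subset_of_ncard_le (fun a ha => ?_) ?_ (Set.toFinite _)
    · obtain ⟨U, -, rfl⟩ := List.mem_map.1 (List.mem_toFinset.1 ha)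
      exact o.le_CC h.gr e1 (ev_subst_mem t ts U)
    · rw [Set.ncard_coe_finset, List.toFinset_card_of_nodup h4, List.length_map]
      exact h3
  have h6 : γ ∈ ((Us.map fun U => ev t (subst ts U)).toFinset : Set (G × M)) := h5 ▸ h1
  obtain ⟨U, hU, rfl⟩ := List.mem_map.1 (List.mem_toFinset.1 h6)
  exact ⟨U, hU, rfl⟩

theorem CO.ct [Finite G] [Finite M] (h : CO z t S) (o : Ov t m val I) {c : List ℕ}
    (hz : (ev t c).1 = z) {bs : List (List ℕ)} {n cC : ℕ} (hl : Lev t S bs n)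
    (hc : Nat.card (centralizer ({z} : Set G)) = cC) {us Us : List (List ℕ)}
    (e : centC val S bs us Us n cC = true) {ts : List (List ℕ)}
    (e1 : band (allL (onC S) ts) (allL (fun b => anyL (eqL b) ts) (c :: (bs ++ us))) = true) :
    CT t ts us Us := by
  rw [band_eq] at e1
  have h1 : ∀ b ∈ c :: (bs ++ us), ev t b ∈ genW t ts := fun b hb => by
    obtain ⟨W, h2, h3⟩ := (anyL_eq _ _).1 ((allL_eq _ _).1 e1.2 b hb)
    rw [eqL_spec h3]; exact mem_genW h2
  have h2 := genW_le_genOn (x := t) e1.1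
  exact ⟨h.gr.mono h2, h.gl.mono h2, genW_le fun W hW => h1 W (by simp [hW]),
    fun g hg => h.cent_le o hl hc e (hz ▸ hg _ (h1 c (by simp))) fun b hb => hg _ (h1 b (by simp [hb]))⟩

noncomputable def normD (val : List ℕ → ℕ) (I : ℕ → ℕ) (Ss : List ℕ) (Ks ts gs : List (List ℕ))
    (cs : List (List (List ℕ))) : Bool :=
  all2 (fun g Us => all2 (fun w U => eqD val I Ss Ks (cj I g w) (subst ts U) []) ts Us) gs cs

theorem normD_spec [Finite G] [Finite M] {Ss : List ℕ} {Ks : List (List ℕ)} (o : St t m val I Ss Ks)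
    {ts gs : List (List ℕ)} {cs : List (List (List ℕ))} (c : normD val I Ss Ks ts gs cs = true)
    (u : List ℕ) : ev t (subst gs u) ∈ normalizer (genW t ts : Set (G × M)) := by
  refine genW_le (fun g hg => mem_normalizer_genW fun w hw => ?_) (ev_subst_mem t gs u)
  obtain ⟨Us, h1⟩ := all2_spec c g hg
  obtain ⟨U, h2⟩ := all2_spec h1 w hw
  rw [← ev_cj o.inv, o.eqD h2]
  exact ev_subst_mem _ _ _

end Cfsg.Agent.O8C
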