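import Mathlib
import Cfsg.Agent.O8C.Gen
import Cfsg.Agent.Comp.Chain
import Cfsg.Agent.Fus.SylIn
import Cfsg.Agent.XSC.UniqPt

/-!
# Counting conjugates
-/

set_option autoImplicit false

namespace Cfsg.Agent.O8C

open Subgroup Cfsg.Agent.TT Cfsg.Agent.LES Cfsg.Agent.XSC Cfsg.Agent.Comp.BN

variable {K : Type*} [Group K]

/-- the conjugates of `b` under `L` -/
def Cl (L : Subgroup K) (b : K) : Set K := {x | ∃ k ∈ L, k * b * k⁻¹ = x}

theorem card_cl (L : Subgroup K) (b : K) :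
    Nat.card L = (Cl L b).ncard * Nat.card (L ⊓ centralizer {b} : Subgroup K) := by
  have := @Comp.card_eq_orbit_mul_stab K K _ (MulAction.compHom K (MulAut.conj : K →* MulAut K)) L b
  have e : centralizer {b} = @MulAction.stabilizer K K _
      (MulAction.compHom K (MulAut.conj : K →* MulAut K)) b :=
    Subgroup.ext fun g => mem_centralizer_singleton_iff.trans mul_inv_eq_iff_eq_mul.symm
  rw [e]
  exact this

section
variable [Finite K] {m : ℕ → K} {val : List ℕ → ℕ} {I : ℕ → ℕ} (o : Orc m val)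
  (hI : ∀ k, m (I k) * m k = 1)
include o hI

theorem cl_list {L : Subgroup K} {gs Lw : List (List ℕ)} {b : List ℕ} (hg : ∀ g ∈ gs, ev m g ∈ L)
    (c : incC (fun W => val (cj I (subst gs W) b)) Lw 0 = true) :
    Lw.length ≤ (Cl L (ev m b)).ncard ∧ ((Cl L (ev m b)).ncard ≤ Lw.length →
      ∀ x ∈ Cl L (ev m b), ∃ W ∈ Lw, ev m (cj I (subst gs W) b) = x) := by
  classical
  have h1 : (Lw.map fun W => ev m (cj I (subst gs W) b)).Nodup := by
    refine List.Nodup.of_map (valM m val) ?_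
    rw [List.map_map]
    convert (incC_spec c).2 using 2
    funext U
    exact o.valM_ev _
  have h2 : ((Lw.map fun W => ev m (cj I (subst gs W) b)).toFinset : Set K) ⊆ Cl L (ev m b) := by
    intro a ha
    obtain ⟨W, -, rfl⟩ := List.mem_map.1 (List.mem_toFinset.1 ha)
    exact ⟨_, genW_le hg (ev_subst_mem m gs W), (ev_cj hI _ _).symm⟩
  have h3 : ((Lw.map fun W => ev m (cj I (subst gs W) b)).toFinset : Set K).ncard = Lw.length := by
    rw [Set.ncard_coe_finset, List.toFinset_card_of_nodup h1, List.length_map]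
  refine ⟨h3 ▸ Set.ncard_le_ncard h2, fun h x hx => ?_⟩
  rw [← Set.eq_of_subset_of_ncard_le h2 (h3 ▸ h)] at hx
  exact List.mem_map.1 (List.mem_toFinset.1 hx)

omit o hI in
/-- the list of words `Xs` is closed under conjugation by the words `gs` -/
noncomputable def clC (val : List ℕ → ℕ) (I : ℕ → ℕ) (gs Xs : List (List ℕ)) (cs : List (List ℕ)) :
    Bool := all2 (fun g js => all2 (fun x j => band (Nat.blt j Xs.length)
      (eqC val (cj I g x) (nth [] Xs j))) Xs js) gs cs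

theorem cl_le {L : Subgroup K} {gs Xs : List (List ℕ)} {b : List ℕ} (hg : L ≤ genW m gs)
    (hb : b ∈ Xs) {cs : List (List ℕ)} (c : clC val I gs Xs cs = true) :
    (Cl L (ev m b)).ncard ≤ Xs.length := by
  classical
  let T : Submonoid K :=
    { carrier := {g | ∀ x ∈ Xs, ∃ y ∈ Xs, g * ev m x * g⁻¹ = ev m y}
      one_mem' := fun x hx => ⟨x, hx, by simp⟩
      mul_mem' := fun {a b} ha hb x hx => by
        obtain ⟨y, hy, e⟩ := hb x hx
        obtain ⟨w, hw, e'⟩ := ha y hy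
        exact ⟨w, hw, by rw [← e', ← e]; group⟩ }
  let T' : Subgroup K :=
    { T with
      inv_mem' := fun {a} ha => (Submonoid.powers_le.2 ha)
        (mem_powers_iff_mem_zpowers.2 (inv_mem (mem_zpowers a))) }
  have h1 : genW m gs ≤ T' := genW_le fun g hg x hx => by
    obtain ⟨js, h1⟩ := all2_spec c g hg
    obtain ⟨j, h2⟩ := all2_spec h1 x hx
    rw [band_eq, Nat.blt_eq] at h2
    exact ⟨_, nth_mem _ _ _ h2.1, ev_cj hI g x ▸ o.eq h2.2⟩
  have h2 : Cl L (ev m b) ⊆ (Xs.map (ev m)).toFinset := by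
    rintro _ ⟨k, hk, rfl⟩
    obtain ⟨y, hy, e⟩ := h1 (hg hk) b hb
    exact List.mem_toFinset.2 (List.mem_map.2 ⟨y, hy, e.symm⟩)
  refine (Set.ncard_le_ncard h2).trans ?_
  rw [Set.ncard_coe_finset]
  exact (List.toFinset_card_le _).trans (List.length_map _).le

end

theorem exists_conj_zpowers [Finite K] {L : Subgroup K} {p : ℕ} (hp : p.Prime)
    (h : ¬ p * p ∣ Nat.card L) {a x : K} (ha : a ∈ L) (hx : x ∈ L) (oa : orderOf a = p)
    (ox : orderOf x = p) : ∃ g ∈ L, ∀ y, Commute x y → Commute a (g * y * g⁻¹) := by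
  have := Fact.mk hp
  have h1 : Fus.SylIn p (zpowers a) L := Fus.sylIn_of_not_dvd_relIndex
    (IsPGroup.of_card (n := 1) (by rw [Nat.card_zpowers, oa, pow_one])) fun e => h (by
      have := ((zpowers a).subgroupOf L).card_mul_index
      rw [Nat.card_congr (subgroupOfEquivOfLe (zpowers_le_of_mem ha)).toEquiv, Nat.card_zpowers,
        oa] at this
      exact this ▸ Nat.mul_dvd_mul_left p e)
  obtain ⟨g, hg, h2⟩ := h1.exists_conj (B := zpowers x)
    (IsPGroup.of_card (n := 1) (by rw [Nat.card_zpowers, ox, pow_one])) (zpowers_le_of_mem hx)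
  have h3 : zpowers (g * x * g⁻¹) = zpowers a := eq_of_le_of_card_ge
    (zpowers_le_of_mem (h2 x (mem_zpowers x))) (by
      rw [Nat.card_zpowers, Nat.card_zpowers, oa, ← ox]
      exact ((MulAut.conj g).orderOf_eq x).ge)
  obtain ⟨n, hn⟩ : a ∈ zpowers (g * x * g⁻¹) := h3 ▸ mem_zpowers a
  exact ⟨g, hg, fun y hy => hn ▸ (hy.map (MulAut.conj g)).zpow_left n⟩

theorem exists_commute {p q n : ℕ} (hp : p.Prime) (hq : q.Prime) (h : Nat.card K = p * n)
    (hn : ¬ p ∣ n) (hqn : q ∣ n) (hd : ¬ q ∣ p - 1) (h1 : ∀ d, d ∣ n → d ≡ 1 [MOD p] → d = 1) :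
    ∃ x y : K, orderOf x = p ∧ orderOf y = q ∧ Commute x y := by
  have := Fact.mk hp
  have := Fact.mk hq
  have : Finite K := Nat.finite_of_card_ne_zero
    (h ▸ mul_ne_zero hp.ne_zero fun e => hn (e ▸ dvd_zero p))
  obtain ⟨x, hx⟩ := exists_prime_orderOf_dvd_card' (G := K) p (h ▸ dvd_mul_right _ _)
  obtain ⟨y, hy⟩ := exists_prime_orderOf_dvd_card' (G := K) q (h ▸ hqn.mul_left _)
  have hc : Nat.card (zpowers x) = p := by rw [Nat.card_zpowers, hx]
  have hi : (zpowers x).index = n :=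
    Nat.eq_of_mul_eq_mul_left hp.pos (by rw [← h, ← (zpowers x).card_mul_index, hc])
  let P : Sylow p K := (IsPGroup.of_card (n := 1) (by rw [hc, pow_one])).toSylow (hi ▸ hn)
  have h2 := h1 _ (hi ▸ P.card_dvd_index) (card_sylow_modEq_one p K)
  have : Subsingleton (Sylow p K) := (Nat.card_eq_one_iff_unique.1 h2).1
  have hn : (zpowers x).Normal := P.normal_of_subsingleton
  have h1 : orderOf (MulAut.conjNormal (H := zpowers x) y) ∣ q := hy ▸ orderOf_map_dvd _ y
  have h2 : orderOf (MulAut.conjNormal (H := zpowers x) y) ∣ p - 1 := by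
    have := orderOf_dvd_natCard (MulAut.conjNormal (H := zpowers x) y)
    rwa [IsCyclic.card_mulAut, hc, Nat.totient_prime hp] at this
  have h3 : MulAut.conjNormal (H := zpowers x) y = 1 :=
    orderOf_eq_one_iff.1 (((Nat.dvd_prime hq).1 h1).resolve_right fun e => hd (e ▸ h2))
  have h4 := congrArg (fun φ : MulAut (zpowers x) => (φ ⟨x, mem_zpowers x⟩ : K)) h3
  simp only [MulAut.conjNormal_apply, MulAut.one_apply] at h4
  exact ⟨x, y, hx, hy, (mul_inv_eq_iff_eq_mul.1 h4).symm⟩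

theorem exists_conj_of_odd [Finite K] {C : Subgroup K} (h : Odd C.index) {x : K} (hx : x * x = 1) :
    ∃ g, g * x * g⁻¹ ∈ C := by
  classical
  have := Fintype.ofFinite (K ⧸ C)
  have := Fact.mk Nat.prime_two
  obtain ⟨a, ha⟩ := Equiv.Perm.exists_fixed_point_of_prime (p := 2) (n := 1) (α := K ⧸ C)
    (by rw [← Nat.card_eq_fintype_card]; exact h.not_two_dvd_nat)
    (σ := MulAction.toPermHom K (K ⧸ C) x) (by rw [← map_pow, pow_one, pow_two, hx, map_one])
  obtain ⟨g, rfl⟩ := QuotientGroup.mk_surjective a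
  exact ⟨g⁻¹, by simpa [mul_assoc] using
    QuotientGroup.eq.1 (ha.symm : (g : K ⧸ C) = ((x * g : K) : K ⧸ C))⟩

/-- the version of `eq_top_of_primes` with a Hall subgroup of order `p n` -/
theorem eq_top_of_odd [Finite K] {H : Subgroup K} {z : K} (hz : orderOf z = 2)
    (hC : centralizer ({z} : Set K) ≤ H)
    (hf : ∀ x ∈ H, IsConj z x → ∃ k ∈ H, k * z * k⁻¹ = x)
    (hs : ∀ y, IsConj z y → Commute z y → y ≠ z →
      ∀ a b : K ⧸ H, (z * y) • a = a → (z * y) • b = b → a = b)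
    (h : ∀ O ≤ H, Odd (Nat.card O) → ¬ (Cl H z).ncard ∣ Nat.card O) : H = ⊤ := by
  by_contra hH
  obtain ⟨O, hO, ho, ht⟩ := exists_odd_of_ne_top hz hC hf hs hH
  refine h O hO ho ?_
  rw [card_cl O z, show Cl H z = Cl O z from Set.Subset.antisymm ?_ ?_]
  · exact dvd_mul_right _ _
  · rintro _ ⟨k, hk, rfl⟩
    exact ht k hk
  · rintro _ ⟨k, hk, rfl⟩
    exact ⟨k, hO hk, rfl⟩

end Cfsg.Agent.O8C
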