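import Mathlib
import Cfsg.Agent.O8C.StepF

/-!
# The embedding of `Ω₈⁺(2)`
-/

set_option autoImplicit false
set_option maxRecDepth 100000

namespace Cfsg.Agent.O8C

open Subgroup Cfsg.Agent.TT Cfsg.Agent.LES Cfsg.Agent.XSC Cfsg.Agent.Comp.BN

/-- facts on the centraliser of the involution of the model -/
structure MF : Prop where
  card : Nat.card (centralizer ({ev m [8]} : Set Mo)) = 110592
  gen : centralizer {ev m [8]} ≤ genOn m 262143
  nf : ∀ g, g * ev m [8] = ev m [8] * g → g * g = 1 → ∃ k, k * ev m [8] = ev m [8] * k ∧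
    ∃ V ∈ nfL [8] Ql, ∃ a b c, k * g * k⁻¹ = ev m (V ++ Rw a b c)

theorem t2 : ∀ a b c, allL (fun V => onC 262143 (appendL V (Rw a b c))) (nfL [8] Ql) = true := by
  decide +kernel

theorem exists_theta {G : Type*} [Group G] [Finite G] {Q P : Subgroup G} {z s : G} {π0 : G → T3}
    (h0 : Hyp Q z π0) (p : LXPair Q P z s) (hP : Nat.card P = 2 ^ 9) :
    ∃ θ : Mo →* G, Function.Injective θ ∧ θ (ev m [8]) = z ∧ centralizer {z} ≤ θ.range ∧
      θ (ev m [1, 2, 4]) ∈ Q ∧ MF := by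
  obtain ⟨t, h, hQ, hn⟩ := exists_stB h0 p hP
  obtain ⟨h1, h2⟩ := stF h
  have o := h.st.toOv
  have h3 : (genW t wsF).map (MonoidHom.snd G Mo) = ⊤ := eq_top_of fun k => by
    by_cases hk : k < 18
    · exact ⟨_, h2 (mem_genOn ((testBit_ones 18 k).trans (by simpa using hk))), o.snd k⟩
    by_cases hk' : k = 18
    · exact ⟨_, mem_genW (W := [18]) (by decide), by simpa [hk'] using o.snd 18⟩
    · rw [m, cut_le _ (by omega)]; exact one_mem _
  obtain ⟨θ, hθ⟩ := h1.exists_hom (MonoidHom.id Mo) fun a => mem_map.1 (h3 ▸ mem_top a)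
  have k1 : ∀ γ ∈ genOn t 262143, θ γ.2 = γ.1 := fun γ hγ =>
    congrArg Prod.fst (h1.eq (hθ γ.2) (h2 hγ) rfl)
  have k2 : ∀ W, onC 262143 W = true → θ (ev m W) = (ev t W).1 := fun W hW => by
    rw [← o.snd_ev, k1 _ (ev_mem_genOn hW)]
  have hz : θ (ev m [8]) = z := (k2 _ (by decide +kernel)).trans h.hz
  have inj : Function.Injective θ := by
    rcases θ.normal_ker.eq_bot_or_eq_top with e | e
    · exact (MonoidHom.ker_eq_bot_iff θ).1 e
    · exact absurd (hz ▸ (MonoidHom.mem_ker.1 (e ▸ mem_top _))) h.ne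
  have k3 : ∀ a, a * ev m [8] = ev m [8] * a ↔ θ a * z = z * θ a := fun a => by
    rw [← hz, ← map_mul, ← map_mul, inj.eq_iff]
  have hC : centralizer {z} ≤ θ.range := fun g hg => by
    obtain ⟨γ, hγ, rfl⟩ := h.co.onto g (mem_centralizer_singleton_iff.1 hg)
    exact ⟨_, k1 γ hγ⟩
  refine ⟨θ, inj, hz, hC, k2 [1, 2, 4] (by decide +kernel) ▸ hQ, ?_, fun a ha => ?_, fun g hg g2 => ?_⟩
  · rw [← h.card, ← card_map_of_injective inj]
    congr 2
    refine le_antisymm ?_ fun g hg => ?_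
    · rintro _ ⟨a, ha, rfl⟩
      exact mem_centralizer_singleton_iff.2 ((k3 a).1 (mem_centralizer_singleton_iff.1 ha))
    · obtain ⟨a, rfl⟩ := hC hg
      exact ⟨a, mem_centralizer_singleton_iff.2 ((k3 a).2 (mem_centralizer_singleton_iff.1 hg)), rfl⟩
  · obtain ⟨γ, hγ, e⟩ := h.co.onto _ ((k3 a).1 (mem_centralizer_singleton_iff.1 ha))
    rw [← inj ((k1 γ hγ).trans e)]
    exact genOn_le (H := (genOn m 262143).comap (MonoidHom.snd G Mo))
      (fun k hk => by simpa [o.snd] using mem_genOn hk) hγ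
  · obtain ⟨k, hk, V, hV, a, b, c, e⟩ := hn _ ((k3 g).1 hg) (by rw [← map_mul, g2, map_one])
    obtain ⟨k, rfl⟩ := hC (mem_centralizer_singleton_iff.2 hk)
    refine ⟨k, (k3 k).2 hk, V, hV, a, b, c, inj ?_⟩
    rw [k2 _ (appendL_eq V _ ▸ (allL_eq _ _).1 (t2 a b c) V hV), ← e, map_mul, map_mul, map_inv]

end Cfsg.Agent.O8C
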