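import Mathlib
import Cfsg.Agent.O8C.Theta
import Cfsg.Agent.O8C.Cnt

/-!
# Involutions and small centralisers of `Ω₈⁺(2)`
-/

set_option autoImplicit false
set_option maxRecDepth 100000

namespace Cfsg.Agent.O8C

open Subgroup Cfsg.Agent.TT Cfsg.Agent.LES Cfsg.Agent.XSC Cfsg.Agent.Comp.BN

def rp : List (List ℕ) := [[8], [2, 4], [1, 4], [1, 2], [1, 2, 4]]
def gs18 : List (List ℕ) := [[0], [1], [2], [3], [4], [5], [6], [7], [8], [9], [10], [11], [12], [13],
  [14], [15], [16], [17]]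
def gs19 : List (List ℕ) := gs18 ++ [[18]]

/-- a word from its digits in base `32` -/
noncomputable def dw (fuel : ℕ) : ℕ → List ℕ :=
  Nat.rec (motive := fun _ => ℕ → List ℕ) (fun _ => []) (fun _ ih z => bif' (Nat.beq z 0) []
    (force (Nat.sub (Nat.land z 31) 1) fun a => a :: force (Nat.shiftRight z 5) ih)) fuel

noncomputable def dl (c n : ℕ) : List (List ℕ) :=
  Nat.rec (motive := fun _ => List (List ℕ)) [] (fun j ih => force (dg 80 c j) (dw 16) :: ih) n

theorem length_dl (c n : ℕ) : (dl c n).length = n := by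
  induction n with
  | zero => rfl
  | succ n ih => exact congrArg Nat.succ ih

noncomputable def cjC (W : List ℕ) (j n : ℕ) (U : List ℕ) : Bool :=
  band (Nat.blt j n) (eqC val (cj X.I W (nth [] rp j)) U)

theorem cjC_spec {W U : List ℕ} {j n : ℕ} (h : cjC W j n U = true) :
    j < n ∧ IsConj (ev m (nth [] rp j)) (ev m U) := by
  rw [cjC, band_eq, Nat.blt_eq] at h
  exact ⟨h.1, isConj_iff.2 ⟨_, ev_cj m_inv W _ ▸ orc.eq h.2⟩⟩

noncomputable def invC (R V : List ℕ) (c : List ℕ × ℕ × List ℕ × ℕ) : Bool :=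
  bor (neC val (appendL (appendL V R) (appendL V R)) []) (bor (eqC val (appendL V R) [])
    (bor (eqC val (appendL V R) [8]) (band (cjC c.1 c.2.1 5 (appendL V R))
      (bor (Nat.blt 0 c.2.1) (cjC c.2.2.1 c.2.2.2 4 (8 :: appendL V R))))))

/-- the three classes with centraliser of order `46080` -/
def Wc (a : Mo) : Prop := IsConj (ev m [2, 4]) a ∨ IsConj (ev m [1, 4]) a ∨ IsConj (ev m [1, 2]) a

theorem Wc.conj {a b : Mo} (h : Wc a) (e : IsConj a b) : Wc b :=
  h.imp (·.trans e) (Or.imp (·.trans e) (·.trans e))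

theorem inv_C (hM : MF) (hI : ∀ a b c, ∃ cs, all2 (invC (Rw a b c)) (nfL [8] Ql) cs = true) {g : Mo}
    (hg : g * ev m [8] = ev m [8] * g) (g2 : g * g = 1) : g = 1 ∨ g = ev m [8] ∨
      (IsConj (ev m [8]) g ∧ (IsConj (ev m [8]) (ev m [8] * g) ∨ Wc (ev m [8] * g))) ∨ Wc g ∨
      IsConj (ev m [1, 2, 4]) g := by
  obtain ⟨k, hk, V, hV, a, b, c, e⟩ := hM.nf g hg g2
  obtain ⟨cs, h⟩ := hI a b c
  obtain ⟨⟨W, j, W', j'⟩, h⟩ := all2_spec h V hV
  simp only [invC, bor_eq, band_eq, appendL_eq, Nat.blt_eq] at h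
  have c1 : IsConj (ev m (V ++ Rw a b c)) g := (isConj_iff.2 ⟨k, e⟩).symm
  have c2 : IsConj (ev m (8 :: (V ++ Rw a b c))) (ev m [8] * g) := (isConj_iff.2 ⟨k, by
    rw [ev_cons m 8 (V ++ _), ← e, ← mul_assoc, hk]; simp [mul_assoc]⟩ : IsConj _ _).symm
  rcases h with h | h | h | ⟨h, h'⟩
  · refine absurd ?_ (orc.ne h)
    rw [ev_append, ← e, conj_mul, g2]; simp
  · rw [orc.eq h] at c1
    exact Or.inl (isConj_one_right.1 c1)
  · rw [orc.eq h, mul_inv_eq_iff_eq_mul, ← hk] at e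
    exact Or.inr (Or.inl (mul_left_cancel e))
  obtain ⟨h1, h2⟩ := cjC_spec h
  replace h2 := h2.trans c1
  interval_cases j
  · obtain ⟨h3, h4⟩ := cjC_spec (h'.resolve_left (by simp))
    replace h4 := h4.trans c2
    refine Or.inr (Or.inr (Or.inl ⟨h2, ?_⟩))
    interval_cases j'
    exacts [Or.inl h4, Or.inr (Or.inl h4), Or.inr (Or.inr (Or.inl h4)), Or.inr (Or.inr (Or.inr h4))]
  exacts [Or.inr (Or.inr (Or.inr (Or.inl (Or.inl h2)))),
    Or.inr (Or.inr (Or.inr (Or.inl (Or.inr (Or.inl h2))))),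
    Or.inr (Or.inr (Or.inr (Or.inl (Or.inr (Or.inr h2))))), Or.inr (Or.inr (Or.inr (Or.inr h2)))]

structure WF (w : Mo) : Prop where
  comm : ev m [8] * w = w * ev m [8]
  sq : w * w = 1
  five : 5 ∣ Nat.card (centralizer ({w} : Set Mo))
  ncard : (Cl (centralizer {w}) (ev m [8])).ncard = 15
  star : ∀ y ∈ Cl (centralizer {w}) (ev m [8]), y = ev m [8] ∨ IsConj (ev m [8]) (ev m [8] * y) ∨
    IsConj (ev m [8]) (ev m [8] * y * w)
  odd : ∀ O ≤ centralizer ({w} : Set Mo), Odd (Nat.card O) → ¬ 15 ∣ Nat.card O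

noncomputable def wfC (w x : List ℕ) (Xs cs gs L cL : List (List ℕ)) : Bool :=
  band (band (band (Xs.elem w) (Nat.beq Xs.length 36)) (clC val X.I gs18 Xs cs))
    (band (band (allL (fun g => comC val g w) ([8] :: x :: gs)) (band (Nat.beq L.length 15)
      (incC (fun W => val (cj X.I (subst gs W) [8])) L 0)))
    (band (all2 (fun W c => bor (eqC val (cj X.I (subst gs W) [8]) [8])
      (bor (eqC val (cj X.I c [8]) (8 :: cj X.I (subst gs W) [8]))
        (eqC val (cj X.I c [8]) (8 :: appendL (cj X.I (subst gs W) [8]) w)))) L cL)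
      (band (band (eqC val (powW w 2) []) (neC val w [])) (band (eqC val (powW x 5) []) (neC val x [])))))

theorem MF.le (h : MF) : centralizer {ev m [8]} ≤ genW m gs18 := h.gen.trans (genOn_le fun k hk => by
  have : k < 18 := by simpa using (testBit_ones 18 k).symm.trans hk
  simpa using mem_genW (x := m) (ws := gs18) (W := [k]) (by interval_cases k <;> decide))

theorem wf_of (h : MF) {w x : List ℕ} {La Lc Xs cs gs L cL : List (List ℕ)}
    (ca : incC (fun W => val (cj X.I (subst gs19 W) w)) La 0 = true)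
    (cc : incC (fun W => val (cj X.I (subst gs W) x)) Lc 0 = true) (cb : wfC w x Xs cs gs L cL = true)
    (na : La.length = 3780) (nc : Lc.length = 1537) : WF (ev m w) := by
  simp only [wfC, band_eq, allL_eq, Nat.beq_eq, List.forall_mem_cons, List.elem_eq_mem,
    decide_eq_true_eq] at cb
  obtain ⟨⟨⟨b1, b2⟩, b3⟩, ⟨⟨b4, b5, b6⟩, b7, b8⟩, b9, ⟨b10, b11⟩, b12, b13⟩ := cb
  have := Fact.mk Nat.prime_two
  have := Fact.mk Nat.prime_five
  have ow : orderOf (ev m w) = 2 := orderOf_eq_prime (ev_powW m w 2 ▸ orc.eq b10) (orc.ne b11)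
  have ox : orderOf (ev m x) = 5 := orderOf_eq_prime (ev_powW m x 5 ▸ orc.eq b12) (orc.ne b13)
  have hx := (orc.cent _ _).1 b5
  have hg := fun g hg => (orc.cent _ _).1 (b6 g hg)
  have a1 := card_cl ⊤ (ev m w)
  have a2 := (cl_list orc m_inv (L := ⊤) (fun _ _ => mem_top _) ca).1
  have a3 := card_cl (centralizer {ev m [8]}) (ev m w)
  have a4 := cl_le orc m_inv h.le b1 b3
  have a5 := card_cl (centralizer {ev m w}) (ev m [8])
  obtain ⟨a6, a7⟩ := cl_list orc m_inv hg b8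
  have a8 := card_cl (centralizer {ev m w}) (ev m x)
  have a9 := (cl_list orc m_inv hg cc).1
  rw [card_top, card_Mo, top_inf_eq] at a1
  rw [h.card, inf_comm] at a3
  rw [na] at a2
  rw [b2] at a4
  rw [nc] at a9
  rw [b7] at a6 a7
  have d1 : Nat.card (centralizer ({ev m w} : Set Mo)) ≤ 46080 := by nlinarith
  have d2 : 3072 ≤ Nat.card (centralizer {ev m w} ⊓ centralizer {ev m [8]} : Subgroup Mo) := by
    nlinarith
  have d3 : (Cl (centralizer {ev m w}) (ev m [8])).ncard ≤ 15 := by nlinarith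
  have d4 : Nat.card (centralizer ({ev m w} : Set Mo)) = 46080 := by nlinarith
  refine ⟨mem_centralizer_singleton_iff.1 ((orc.cent _ _).1 b4), pow_two (ev m w) ▸ ow ▸ pow_orderOf_eq_one _,
    by rw [d4]; norm_num, by omega, fun y hy => ?_, fun O hO ho h15 => ?_⟩
  · obtain ⟨W, hW, rfl⟩ := a7 d3 y hy
    obtain ⟨c, e⟩ := all2_spec b9 W hW
    simp only [bor_eq] at e
    refine e.imp orc.eq (Or.imp (fun e => isConj_iff.2 ⟨ev m c, ?_⟩) fun e => isConj_iff.2 ⟨ev m c, ?_⟩) <;>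
      rw [← ev_cj m_inv, orc.eq e] <;> simp [ev_app, mul_assoc]
  · have e1 : Nat.card O ∣ 45 := (Nat.Coprime.pow_right 10 (Nat.coprime_two_right.2 ho)).dvd_of_dvd_mul_left
      (by have := card_dvd_of_le hO; rwa [d4] at this)
    obtain ⟨n, hn⟩ := h15
    have e2 : n ∣ 3 := Nat.dvd_of_mul_dvd_mul_left (k := 15) (by norm_num) (hn ▸ e1)
    obtain ⟨a, b, oa, ob, hc⟩ := exists_commute (K := O) (p := 5) (q := 3) (n := 3 * n) Nat.prime_five
      Nat.prime_three (by omega) (by have := Nat.le_of_dvd (by norm_num) e2; interval_cases n <;> omega)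
      (dvd_mul_right _ _) (by norm_num) fun d hd e => by
        have := Nat.le_of_dvd (by norm_num) (hd.trans (Nat.mul_dvd_mul_left 3 e2))
        have := hd.trans (Nat.mul_dvd_mul_left 3 e2)
        rw [Nat.ModEq] at e
        interval_cases d <;> omega
    obtain ⟨g, hg, e⟩ := exists_conj_zpowers Nat.prime_five (by rw [d4]; norm_num) hx (hO a.2) ox
      (by rwa [Subgroup.orderOf_coe])
    have k : ∀ u ∈ centralizer ({ev m w} : Set Mo), Commute (ev m x) u → orderOf u ∣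
        Nat.card (centralizer {ev m w} ⊓ centralizer {ev m x} : Subgroup Mo) := fun u h1 h2 =>
      Subgroup.orderOf_dvd_natCard _ ⟨h1, mem_centralizer_singleton_iff.2 h2.symm.eq⟩
    have k1 := k _ (mem_centralizer_singleton_iff.2 rfl) (mem_centralizer_singleton_iff.1 hx)
    have k2 := k _ hx (Commute.refl _)
    have k3 := k _ (mul_mem (mul_mem hg (hO b.2)) (inv_mem hg)) (e b (hc.map O.subtype))
    rw [Inv.orderOf_conj_eq, Subgroup.orderOf_coe, ob] at k3
    rw [ow] at k1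
    rw [ox] at k2
    have k4 : 30 ≤ Nat.card (centralizer {ev m w} ⊓ centralizer {ev m x} : Subgroup Mo) :=
      Nat.le_of_dvd Nat.card_pos (by omega)
    nlinarith

def F5 : Finset ℕ := {0, 2, 3, 9, 10, 11, 14, 30, 33, 75}

theorem p7 : (∀ i < 120, (pt [0, 17, 2, 12, 18] i = i ↔ i = 0)) ∧
    eqC val (powW [0, 17, 2, 12, 18] 7) [] = true ∧ eqC val (powW [16, 18, 14, 10, 5] 5) [] = true ∧
    neC val [0, 17, 2, 12, 18] [] = true ∧ neC val [16, 18, 14, 10, 5] [] = true ∧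
    ∀ i < 120, (pt [16, 18, 14, 10, 5] i = i ↔ i ∈ F5) := by decide +kernel

open Spor.ModelO8p in
theorem exists_stab : ∃ L : Subgroup Mo, (∀ g, g ∈ L ↔ ρ g 0 = 0) ∧ Nat.card L = 1451520 := by
  have h : Comp.IsStab 128 (Comp.gen ns G_ss0) (Comp.cgrp ns G_C1) 0 G_D0 := by
    rw [G_eq]; exact G_st0
  exact ⟨(Comp.cgrp ns G_C1).subgroupOf _, fun g => ⟨h.fix g.1, h.stab g.1 g.2⟩,
    (Nat.card_congr (subgroupOfEquivOfLe h.le).toEquiv).trans G_card1⟩

theorem no35 {x y : Mo} (hx : orderOf x = 7) (hy : orderOf y = 5) : ¬ Commute x y := fun hc => by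
  obtain ⟨p1, p2, p3, p4, p5, p6⟩ := p7
  have := Fact.mk Nat.prime_five
  have h7 : Fact (Nat.Prime 7) := ⟨by norm_num⟩
  have oa : orderOf (ev m [0, 17, 2, 12, 18]) = 7 :=
    orderOf_eq_prime (ev_powW m _ 7 ▸ orc.eq p2) (orc.ne p4)
  have ob : orderOf (ev m [16, 18, 14, 10, 5]) = 5 :=
    orderOf_eq_prime (ev_powW m _ 5 ▸ orc.eq p3) (orc.ne p5)
  have fa : ∀ i < 120, ρ (ev m [0, 17, 2, 12, 18]) i = i ↔ i = 0 := fun i hi => pt_eq _ hi ▸ p1 i hi
  have fb : ∀ i < 120, ρ (ev m [16, 18, 14, 10, 5]) i = i ↔ i ∈ F5 := fun i hi => pt_eq _ hi ▸ p6 i hi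
  generalize ev m [0, 17, 2, 12, 18] = a at *
  generalize ev m [16, 18, 14, 10, 5] = b at *
  obtain ⟨L, mL, cL⟩ := exists_stab
  have cm : ∀ {u v : Mo}, Commute u v → ∀ i, ρ u i = i → ρ u (ρ v i) = ρ v i := fun h i e => by
    rw [← Equiv.Perm.mul_apply, ← map_mul, h.eq, map_mul, Equiv.Perm.mul_apply, e]
  obtain ⟨g, -, e⟩ := exists_conj_zpowers (L := ⊤) h7.out (by rw [card_top, card_Mo]; norm_num)
    (mem_top a) (mem_top x) oa hx
  have h1 := e y hc
  obtain ⟨k, hk, e'⟩ := exists_conj_zpowers (L := L) Nat.prime_five (by rw [cL]; norm_num)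
    ((mL b).2 ((fb 0 (by norm_num)).2 (by decide))) ((mL (g * y * g⁻¹)).2 ((fa _ (hlt _ 0 (by norm_num))).1
      (cm h1 0 ((fa 0 (by norm_num)).2 rfl)))) ob (by rw [Inv.orderOf_conj_eq, hy])
  have h2 := e' a h1.symm
  have lt : ∀ i ∈ F5, i < 120 := by decide
  let φ : Function.End F5 := fun i => ⟨ρ (k * a * k⁻¹) i, (fb _ (hlt _ _ (lt _ i.2))).1
    (cm h2 _ ((fb _ (lt _ i.2)).2 i.2))⟩
  have h3 : ∀ (n : ℕ) (i : F5), ((φ ^ n) i : ℕ) = ρ ((k * a * k⁻¹) ^ n) i := fun n => by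
    induction n with
    | zero => intro i; rw [pow_zero, pow_zero, map_one]; rfl
    | succ n ih => intro i; rw [pow_succ, pow_succ, map_mul]; exact ih _
  have h4 := Equiv.Perm.card_fixedPoints_modEq (f := φ) (p := 7) (n := 1) (funext fun i => Subtype.ext (by
    rw [h3, pow_one, conj_pow, ← oa, pow_orderOf_eq_one, mul_one, mul_inv_cancel, map_one]; rfl))
  have h5 : ∀ i : F5, i ∈ φ.fixedPoints ↔ i = ⟨0, by decide⟩ := fun i => by
    have k0 := (mL k).1 hk
    rw [Function.mem_fixedPoints_iff, Subtype.ext_iff, Subtype.ext_iff]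
    change ρ (k * a * k⁻¹) i = i ↔ (i : ℕ) = 0
    rw [map_mul, map_mul, Equiv.Perm.mul_apply, Equiv.Perm.mul_apply, ← Equiv.Perm.eq_inv_iff_eq,
      ← map_inv, fa _ (hlt _ _ (lt _ i.2)), map_inv, Equiv.Perm.inv_eq_iff_eq, k0]
  rw [Fintype.card_eq_one_iff.2 ⟨⟨_, (h5 _).2 rfl⟩, fun i => Subtype.ext ((h5 _).1 i.2)⟩,
    Fintype.card_coe] at h4
  exact absurd h4 (by decide)

end Cfsg.Agent.O8C
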