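import Mathlib
import Cfsg.Agent.XSC.Lin
import Cfsg.Agent.XSC.Pair

/-!
# The tensor cube of the natural module of `S₃`

Linear algebra for an involution centraliser of shape `2^(1+8).(S₃ × S₃ × S₃)`.
-/

set_option autoImplicit false

namespace Cfsg.Agent.O8C

abbrev S3 : Type := Equiv.Perm (Fin 3)
abbrev T3 : Type := Fin 3 → S3

def τ : S3 := Equiv.swap 0 1
def τ' : S3 := Equiv.swap 1 2
def ρ3 : S3 := τ * τ'
def el (i : Fin 3) (σ : S3) : T3 := fun j => if j = i then σ else 1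
def Dv (σ : S3) (b : ℕ) : T3 := fun i => if b.testBit i then σ else 1

theorem el_comm {i : Fin 3} {g : T3} (h : g i = 1) (σ : S3) : el i σ * g = g * el i σ := by
  ext1 j
  by_cases e : j = i
  · subst e; simp [el, h]
  · simp [el, e]

theorem el_mul (i : Fin 3) (σ σ' : S3) : el i (σ * σ') = el i σ * el i σ' := by
  ext1 j
  by_cases e : j = i <;> simp [el, e]

theorem el_one (i : Fin 3) : el i 1 = 1 := by
  ext1 j
  simp [el]

theorem el_norm (i : Fin 3) (a : T3) :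
    (a * el i ρ3 = el i ρ3 * a ∧ a * (el i ρ3 * el i ρ3) = el i ρ3 * el i ρ3 * a) ∨
    (a * el i ρ3 = el i ρ3 * el i ρ3 * a ∧ a * (el i ρ3 * el i ρ3) = el i ρ3 * a) := by
  have : ∀ σ : S3, (σ * ρ3 = ρ3 * σ ∧ σ * (ρ3 * ρ3) = ρ3 * ρ3 * σ) ∨
      (σ * ρ3 = ρ3 * ρ3 * σ ∧ σ * (ρ3 * ρ3) = ρ3 * σ) := by decide
  rcases this (a i) with h | h
  · refine Or.inl ⟨?_, ?_⟩ <;> ext1 j <;> by_cases e : j = i <;> simp [el, e, h]
  · refine Or.inr ⟨?_, ?_⟩ <;> ext1 j <;> by_cases e : j = i <;> simp [el, e, h]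

variable {V : Type} [AddCommGroup V] [Module (ZMod 2) V]

theorem add_self' (v : V) : v + v = 0 := by
  rw [← two_smul (ZMod 2) v, show (2 : ZMod 2) = 0 from rfl, zero_smul]

structure LD (B : V →ₗ[ZMod 2] V →ₗ[ZMod 2] ZMod 2) (φ : T3 →* Module.End (ZMod 2) V) (s : V)
    (E : Set V) (A : Set T3) : Prop where
  inv : ∀ g v w, B (φ g v) (φ g w) = B v w
  symm : ∀ v w, B v w = B w v
  s0 : s ≠ 0
  add : ∀ e ∈ E, ∀ f ∈ E, e + f ∈ E
  memA : ∀ i, el i τ ∈ A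
  fix : ∀ a ∈ A, φ a s = s
  f1 : ∀ a ∈ A, ∀ v, B v s = 0 → φ a v + v ∈ E
  f2 : ∀ a ∈ A, ∀ e ∈ E, φ a e + e = 0 ∨ φ a e + e = s
  f3 : ∀ e ∈ E, (∀ a ∈ A, φ a e = e) → e = 0 ∨ e = s
  f4 : ∃ e ∈ E, ∃ f ∈ E, ¬ (e = 0 ∨ e = s) ∧ ¬ (f = 0 ∨ f = s) ∧ ¬ (e + f = 0 ∨ e + f = s)
  f5 : ∀ i, φ (el i ρ3) s ≠ s

namespace LD

variable {B : V →ₗ[ZMod 2] V →ₗ[ZMod 2] ZMod 2} {φ : T3 →* Module.End (ZMod 2) V} {s : V}
  {E : Set V} {A : Set T3} (h : LD B φ s E A)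

theorem app (φ : T3 →* Module.End (ZMod 2) V) (a b : T3) (v : V) : φ a (φ b v) = φ (a * b) v := by
  rw [map_mul]; rfl

include h

theorem tri (i : Fin 3) : φ (el i ρ3 * el i ρ3) s = s + φ (el i ρ3) s := by
  set d := el i ρ3 with hd
  have d3 : d * (d * d) = 1 := by
    rw [hd, ← el_mul, ← el_mul, show ρ3 * (ρ3 * ρ3) = 1 by decide, el_one]
  let w : V → V := fun v => v + φ d v + φ (d * d) v
  have w1 : ∀ a v, φ a (w v) = w (φ a v) := fun a v => by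
    simp only [w, map_add, app]
    rcases el_norm i a with e | e <;> rw [← hd] at e <;> rw [e.1, e.2]
    abel
  have w2 : ∀ u v, B (w u) v = B u (w v) := fun u v => by
    have e1 := h.inv d u (φ (d * d) v)
    have e2 := h.inv (d * d) u (φ d v)
    rw [app, d3] at e1
    rw [app, mul_assoc, d3] at e2
    simp only [map_one, Module.End.one_apply] at e1 e2
    simp only [w, map_add, LinearMap.add_apply, e1, e2]
    abel
  have w3 : ∀ u v, w (u + v) = w u + w v := fun u v => by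
    simp only [w, map_add]; abel
  have w4 : φ d (w s) = w s := by
    simp only [w, map_add, app, d3, map_one, Module.End.one_apply]; abel
  have key : w s = 0 := by
    by_contra hne
    have : ∀ e ∈ E, B e (w s) = 0 → e = 0 ∨ e = s := fun e he hb => by
      refine h.f3 e he fun a ha => ?_
      rcases h.f2 a ha e he with e1 | e1
      · rw [← add_left_inj e, e1, add_self']
      have h1 := h.f1 a ha (w e) (by rw [w2, hb])
      rw [w1, ← w3, e1] at h1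
      rcases h.f3 _ h1 (fun b hb => by rw [w1, h.fix b hb]) with e2 | e2
      · exact absurd e2 hne
      · exact absurd (by rw [← e2, w4]) (h.f5 i)
    obtain ⟨e, he, f, hf, h1, h2, h3⟩ := h.f4
    refine h3 (this _ (h.add e he f hf) ?_)
    have k : ∀ x y : ZMod 2, x ≠ 0 → y ≠ 0 → x + y = 0 := by decide
    rw [map_add B e f, LinearMap.add_apply]
    exact k _ _ (mt (this e he) h1) (mt (this f hf) h2)
  rw [← add_left_inj (φ (d * d) s), add_self']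
  exact key.symm

theorem act_τ0 {i : Fin 3} {g : T3} (hg : g i = 1) : φ (el i τ) (φ g s) = φ g s := by
  rw [app, el_comm hg, ← app, h.fix _ (h.memA i)]

theorem act_ρ1 {i : Fin 3} {g : T3} (hg : g i = 1) :
    φ (el i ρ3) (φ (el i ρ3 * g) s) = φ g s + φ (el i ρ3 * g) s := by
  rw [app, ← mul_assoc, ← el_mul, el_comm hg, el_comm hg, ← app, ← app, el_mul, h.tri, map_add]

theorem act_τ1 {i : Fin 3} {g : T3} (hg : g i = 1) :
    φ (el i τ) (φ (el i ρ3 * g) s) = φ g s + φ (el i ρ3 * g) s := by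
  rw [← h.act_ρ1 hg, ← app φ (el i ρ3) g]
  conv_rhs => rw [← h.act_τ0 hg]
  generalize φ g s = v
  rw [app, app, app, ← el_mul, ← el_mul, ← el_mul, show τ * ρ3 = ρ3 * ρ3 * τ by decide]

theorem orth {i : Fin 3} {g : T3} (hg : g i = 1) : B s (φ g s) = 0 := by
  have e1 := h.inv (el i τ) s (φ (el i ρ3 * g) s)
  rw [h.fix _ (h.memA i), h.act_τ1 hg, map_add] at e1
  simpa using e1

theorem fixD {b : ℕ} (hb : b < 8) : φ (Dv τ b) s = s := by
  have e : ∀ b < 8, Dv τ b = (if b.testBit 0 then el 0 τ else 1) * ((if b.testBit 1 then el 1 τ else 1) *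
      if b.testBit 2 then el 2 τ else 1) := by decide
  have k : ∀ (p : Prop) [Decidable p] (i : Fin 3), φ (if p then el i τ else 1) s = s := fun p _ i => by
    split_ifs
    · exact h.fix _ (h.memA i)
    · simp
  rw [e b hb, ← app, ← app, k, k, k]

theorem kappa : B s (φ (Dv ρ3 7) s) ≠ 0 := fun e => by
  have h1 := h.f1 _ (h.memA 0) _ (by rw [h.symm, e])
  rw [show Dv ρ3 7 = el 0 ρ3 * Dv ρ3 6 by decide, h.act_τ1 (by decide), add_assoc, add_self',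
    add_zero] at h1
  have h2 := h.f2 _ (h.memA 1) _ h1
  rw [show Dv ρ3 6 = el 1 ρ3 * el 2 ρ3 by decide, h.act_τ1 (by decide), add_assoc, add_self',
    add_zero] at h2
  refine h2.elim (fun e1 => h.s0 ?_) (h.f5 2)
  have := congrArg (φ (el 2 ρ3)⁻¹) e1
  rwa [app, inv_mul_cancel, map_one, map_zero] at this

theorem gram {b c : ℕ} (hb : b < 8) (hc : c < 8) :
    B (φ (Dv ρ3 b) s) (φ (Dv ρ3 c) s) = 0 ↔ c ≠ 7 - b := by
  rw [← h.inv (Dv ρ3 b)⁻¹, app, app, inv_mul_cancel, map_one, Module.End.one_apply]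
  have e : ∀ b < 8, ∀ c < 8, (c ≠ 7 - b ∧ ∃ i, ((Dv ρ3 b)⁻¹ * Dv ρ3 c) i = 1) ∨
      (c = 7 - b ∧ Dv τ b * ((Dv ρ3 b)⁻¹ * Dv ρ3 c) = Dv ρ3 7 * Dv τ b) := by decide +kernel
  rcases e b hb c hc with ⟨h1, i, h2⟩ | ⟨h1, h2⟩
  · exact ⟨fun _ => h1, fun _ => h.orth h2⟩
  · refine ⟨fun e => absurd ?_ h.kappa, fun e => absurd h1 e⟩
    rwa [← h.inv (Dv τ b), app, h2, ← app, h.fixD hb] at e

theorem mem_E (i : Fin 3) : φ (Dv ρ3 (2 ^ (i : ℕ))) s ∈ E := by
  have e : ∀ i : Fin 3, Dv ρ3 (2 ^ (i : ℕ)) (i + 1) = 1 ∧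
    (el (i + 1) ρ3 * Dv ρ3 (2 ^ (i : ℕ))) (i + 2) = 1 := by decide
  have h1 := h.f1 _ (h.memA (i + 1)) _ (h.symm _ _ ▸ h.orth (e i).2)
  rwa [h.act_τ1 (e i).1, add_assoc, add_self', add_zero] at h1

end LD

end Cfsg.Agent.O8C
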