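import Mathlib
import Cfsg.Agent.O8C.Lin
import Cfsg.Agent.XSC.Frame

/-!
# The frame of the extraspecial group in a centraliser of shape `2^(1+8).(S₃ × S₃ × S₃)`
-/

set_option autoImplicit false

namespace Cfsg.Agent.O8C

open Subgroup Cfsg.Agent.TT Cfsg.Agent.LES Cfsg.Agent.XSC Cfsg.Agent.Comp.BN

variable {G : Type*} [Group G]

structure Hyp (Q : Subgroup G) (z : G) (π : G → T3) : Prop where
  lx : LX Q z
  card : Nat.card Q = 2 ^ 9
  mul : ∀ a b, a * z = z * a → b * z = z * b → π (a * b) = π a * π b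
  ker : ∀ a, a * z = z * a → (π a = 1 ↔ a ∈ Q)
  surj : ∀ σ, ∃ a, a * z = z * a ∧ π a = σ

namespace Hyp

variable {Q P : Subgroup G} {z s : G} {π : G → T3} (h : Hyp Q z π)

def hom : centralizer ({z} : Set G) →* T3 :=
  MonoidHom.mk' (fun x => π x) fun a b =>
    h.mul _ _ (mem_centralizer_singleton_iff.1 a.2) (mem_centralizer_singleton_iff.1 b.2)

include h

theorem one : π 1 = 1 := map_one h.hom

theorem inv {a : G} (ha : a * z = z * a) : π a⁻¹ = (π a)⁻¹ :=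
  map_inv h.hom ⟨a, mem_centralizer_singleton_iff.2 ha⟩

theorem pow {a : G} (ha : a * z = z * a) (n : ℕ) : π (a ^ n) = π a ^ n :=
  map_pow h.hom ⟨a, mem_centralizer_singleton_iff.2 ha⟩ n

theorem of_mem {a : G} (ha : a ∈ Q) : π a = 1 := (h.ker a (h.lx.z_comm a ha)).2 ha

theorem mem_of_eq {a b : G} (ha : a * z = z * a) (hb : b * z = z * b) (e : π a = π b) :
    a * b⁻¹ ∈ Q :=
  (h.ker _ (comm_mul_left ha (comm_inv_left hb))).1 (by
    rw [h.mul _ _ ha (comm_inv_left hb), h.inv hb, e, mul_inv_cancel])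

theorem conj (c : T3) : Hyp Q z fun g => c * π g * c⁻¹ := by
  refine ⟨h.lx, h.card, fun a b ha hb => by rw [h.mul a b ha hb]; group, fun a ha => ?_, fun σ => ?_⟩
  · rw [← h.ker a ha, mul_inv_eq_one, mul_eq_left]
  · obtain ⟨a, ha, e⟩ := h.surj (c⁻¹ * σ * c)
    exact ⟨a, ha, by rw [e]; group⟩

theorem card_cent [Finite G] : Nat.card (centralizer ({z} : Set G)) = 110592 := by
  have h1 : h.hom.ker = Q.subgroupOf _ := by
    ext x
    exact h.ker _ (mem_centralizer_singleton_iff.1 x.2)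
  have h2 : h.hom.range = ⊤ := MonoidHom.range_eq_top.2 fun σ => by
    obtain ⟨a, ha, e⟩ := h.surj σ
    exact ⟨⟨a, mem_centralizer_singleton_iff.2 ha⟩, e⟩
  have h3 := h.hom.ker.card_mul_index
  rw [index_ker, h2, h1, Nat.card_congr (subgroupOfEquivOfLe (LX_le_centralizer h.lx)).toEquiv,
    h.card, card_top] at h3
  rw [← h3]
  simp [Fintype.card_perm, Nat.factorial]

theorem exists_a [Finite G] (p : LXPair Q P z s) (hP : Nat.card P = 2 ^ 9) :
    Nat.card (Q ⊓ P : Subgroup G) = 32 ∧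
      ∀ i, ∃ a ∈ P, a * z = z * a ∧ ∃ σ, Equiv.Perm.sign σ = -1 ∧ π a = el i σ := by
  have h1 := card_image_mul p h.hom fun x => h.ker _ (mem_centralizer_singleton_iff.1 x.2)
  have h2 := card_E_sq_le p
  rw [h.card] at h2
  rw [hP] at h1
  set A := (P.subgroupOf (centralizer ({z} : Set G))).map h.hom
  have h4 : ∀ a ∈ A, a ^ 4 = 1 := by
    rintro _ ⟨x, hx, rfl⟩
    rw [← map_pow, show x ^ 4 = 1 from Subtype.ext (p.hP.toXS.pow_four hx), map_one]
  have k : ∀ σ : S3, σ ^ 4 = 1 → Equiv.Perm.sign σ = 1 → σ = 1 := by decide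
  let f : A →* (Fin 3 → ℤˣ) := MonoidHom.mk' (fun a i => Equiv.Perm.sign (a.1 i)) fun a b => by
    ext1 i; simp
  have hf : Function.Injective f := (injective_iff_map_eq_one f).2 fun a ha =>
    Subtype.ext (funext fun i => k _ (congrFun (h4 a.1 a.2) i) (congrFun ha i))
  have h5 : Nat.card (Fin 3 → ℤˣ) = 8 := by simp
  have h6 := Nat.card_le_card_of_injective f hf
  have h7 : Nat.card (Q ⊓ P : Subgroup G) ≤ 32 := by nlinarith
  have h8 : Nat.card A = 8 := by nlinarith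
  refine ⟨by rw [h8] at h1; omega, fun i => ?_⟩
  obtain ⟨⟨_, x, hx, rfl⟩, e⟩ := ((Nat.bijective_iff_injective_and_card f).2 ⟨hf, h8.trans h5.symm⟩).2
    fun j => if j = i then -1 else 1
  refine ⟨x, hx, mem_centralizer_singleton_iff.1 x.2, π x i, (congrFun e i).trans (if_pos rfl), ?_⟩
  ext1 j
  by_cases hj : j = i
  · simp [el, hj]
  · rw [el, if_neg hj]
    exact k _ (congrFun (h4 _ ⟨x, hx, rfl⟩) j) ((congrFun e j).trans (if_neg hj))

end Hyp

/-- the images of the frame under the `i`-th element of order three -/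
def aD (i b : ℕ) : List ℕ := if b.testBit i then [b - 2 ^ i, b] else [b + 2 ^ i]

/-- the images of the frame under the `i`-th involution -/
def aR (i b : ℕ) : List ℕ := if b.testBit i then [b - 2 ^ i, b] else [b]

structure Fm (Q P : Subgroup G) (z : G) (π : G → T3) (q : ℕ → G) (a d : Fin 3 → G) : Prop where
  qQ : ∀ b, q b ∈ Q
  qq : ∀ b, q b * q b = 1
  cm : ∀ b < 8, ∀ c < 8, q b * q c = q c * q b ↔ c ≠ 7 - b
  fP : ∀ i : Fin 3, q (2 ^ (i : ℕ)) ∈ P
  aP : ∀ i, a i ∈ P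
  az : ∀ i, a i * z = z * a i
  πa : ∀ i, π (a i) = el i τ
  dz : ∀ i, d i * z = z * d i
  πd : ∀ i, π (d i) = el i ρ3
  acta : ∀ i : Fin 3, ∀ b < 8, Eqv z (a i * q b * (a i)⁻¹) (ev q (aR i b))
  actd : ∀ i : Fin 3, ∀ b < 8, Eqv z (d i * q b * (d i)⁻¹) (ev q (aD i b))

theorem Hyp.exists_fm [Finite G] {Q P : Subgroup G} {z s : G} {π0 : G → T3} (h0 : Hyp Q z π0)
    (p : LXPair Q P z s) (hP : Nat.card P = 2 ^ 9) :
    ∃ π q a d, Hyp Q z π ∧ Fm Q P z π q a d ∧ q 0 = s := by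
  obtain ⟨hE, ha⟩ := h0.exists_a p hP
  choose a aP az σ hσ πa using ha
  have k1 : ∀ σ : S3, Equiv.Perm.sign σ = -1 → ∃ c : S3, c * σ * c⁻¹ = τ := by decide
  choose c0 hc0 using fun i => k1 _ (hσ i)
  have h := h0.conj c0
  replace πa : ∀ i, (fun g => c0 * π0 g * c0⁻¹) (a i) = el i τ := fun i => by
    ext1 j
    by_cases e : j = i
    · subst e; simp [πa, el, hc0]
    · simp [πa, el, e]
  generalize (fun g => c0 * π0 g * c0⁻¹) = π at h πa
  obtain ⟨V, _, _, θ, B, qf, A, l⟩ := exists_ln h.lx (n := 4) h.card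
  choose c cz πc using h.surj
  have hA : ∀ g g', g * z = z * g → g' * z = z * g' → π g = π g' → A g = A g' := fun g g' a b e => by
    ext v
    have := l.A_mul (comm_mul_left a (comm_inv_left b)) b v
    rwa [inv_mul_cancel_right, l.A_mem (h.mem_of_eq a b e)] at this
  let φ : T3 →* Module.End (ZMod 2) V :=
    { toFun := fun σ => A (c σ)
      map_one' := by ext v; exact l.A_mem ((h.ker _ (cz 1)).1 (πc 1)) v
      map_mul' := fun x y => by
        ext v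
        rw [hA _ _ (cz _) (comm_mul_left (cz x) (cz y)) (by rw [h.mul _ _ (cz x) (cz y), πc, πc, πc])]
        exact l.A_mul (cz x) (cz y) v }
  have hφ : ∀ g, g * z = z * g → ∀ x ∈ Q, φ (π g) (θ x) = θ (g * x * g⁻¹) := fun g hg x hx => by
    rw [← l.act g hg x hx, ← hA _ _ (cz _) hg (πc _)]; rfl
  have sQ := p.s_mem
  have ss := p.hP.z_sq
  have zz := p.hQ.z_sq
  have hs0 : ∀ x ∈ Q, (θ x = 0 ∨ θ x = θ s) ↔ InV z s x := fun x hx => by
    rw [l.zero x hx, l.eq_iff hx sQ, Eqv, p.sz, InV, or_assoc]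
  have ld : LD B φ (θ s) (θ '' (Q ⊓ P : Subgroup G)) (π '' {g | g ∈ P ∧ g * z = z * g}) := by
    refine ⟨fun g => l.A_B (cz g), l.B_comm, fun e => ?_, ?_, fun i => ⟨_, ⟨aP i, az i⟩, πa i⟩, ?_, ?_,
      ?_, ?_, ?_, fun i e => ?_⟩
    · exact ((l.zero s sQ).1 e).elim p.hP.z_ne p.ne
    · rintro _ ⟨x, hx, rfl⟩ _ ⟨y, hy, rfl⟩
      exact ⟨_, mul_mem hx hy, l.mul x hx.1 y hy.1⟩
    · rintro _ ⟨g, hg, rfl⟩
      rw [hφ g hg.2 s sQ, conj_eq_of_comm (p.hP.z_comm g hg.1)]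
    · rintro _ ⟨g, hg, rfl⟩ v hv
      obtain ⟨x, hx, rfl⟩ := l.surj v
      refine ⟨_, comm_mem_E p hx ((l.comm_iff hx sQ).2 hv) hg.1 hg.2, ?_⟩
      rw [l.comm_val hg.2 hx, l.act g hg.2 x hx, hφ g hg.2 x hx]
    · rintro _ ⟨g, hg, rfl⟩ _ ⟨x, hx, rfl⟩
      rw [hφ g hg.2 x hx.1]
      rcases p.hP.toXS.conj hg.1 hx.2 with e | e <;> rw [e]
      · exact Or.inl (add_self' _)
      · rw [l.mul x hx.1 s sQ, add_right_comm, add_self', zero_add]
        exact Or.inr rfl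
    · rintro _ ⟨x, hx, rfl⟩ hf
      refine (hs0 x hx.1).2 (InV.symm p.symm.sz ?_)
      refine (p.hP.toXS.eq_of_comm_centralizer p.z_mem hx.2 fun g hg hz => ?_).imp id
        (Or.imp id (Or.imp id fun e => e.trans p.sz.symm))
      have e1 := hf _ ⟨g, ⟨hg, hz⟩, rfl⟩
      rw [hφ g hz x hx.1, l.eq_iff (h.lx.norm g hz x hx.1) hx.1] at e1
      rcases p.hP.toXS.conj hg hx.2 with e | e
      · exact comm_of_conj_eq e
      · rw [e] at e1
        exact (e1.elim (fun e => p.hP.z_ne (mul_eq_left.1 e)) fun e => p.ne (mul_left_cancel e)).elim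
    · have k2 : ∀ L : List G, L.length < 32 → ∃ x ∈ Q ⊓ P, x ∉ L := fun L hL => by
        by_contra hc
        push Not at hc
        classical
        have := Set.ncard_le_ncard (show ((Q ⊓ P : Subgroup G) : Set G) ⊆ L.toFinset from
          fun x hx => by simpa using hc x hx) (Set.toFinite _)
        rw [Set.ncard_coe_finset] at this
        have h2 := L.toFinset_card_le
        have h3 : ((Q ⊓ P : Subgroup G) : Set G).ncard = 32 := hE
        omega
      obtain ⟨x, hx, h1⟩ := k2 [1, z, s, z * s] (by simp)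
      obtain ⟨y, hy, h2⟩ := k2 [1, z, s, z * s, x⁻¹, x⁻¹ * z, x⁻¹ * s, x⁻¹ * (z * s)] (by simp)
      refine ⟨_, ⟨x, hx, rfl⟩, _, ⟨y, hy, rfl⟩, ?_, ?_, ?_⟩
      · rw [hs0 x hx.1]; simpa [InV] using h1
      · rw [hs0 y hy.1]
        rintro (e | e | e | e) <;> simp [e] at h2
      · rw [← l.mul x hx.1 y hy.1, hs0 _ (mul_mem hx.1 hy.1)]
        intro e
        refine h2 ?_
        rw [show y = x⁻¹ * (x * y) by group]
        rcases e with e | e | e | e <;> simp [e]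
    · rw [← πc (el i ρ3), hφ _ (cz _) s sQ, l.eq_iff (h.lx.norm _ (cz _) s sQ) sQ] at e
      obtain ⟨y, hy, e1⟩ := exists_conj_of_eqv h.lx.toXS sQ p.hP.z_ne p.ne e
      have y1 := comm_inv_left (h.lx.z_comm y hy)
      have d1 := comm_mul_left y1 (cz (el i ρ3))
      have d2 : y⁻¹ * c (el i ρ3) * s = s * (y⁻¹ * c (el i ρ3)) := comm_of_conj_eq (by
        calc _ = y⁻¹ * (c (el i ρ3) * s * (c (el i ρ3))⁻¹) * y := by group
          _ = s := by rw [← e1]; group)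
      have d3 : π (y⁻¹ * c (el i ρ3)) = el i ρ3 := by
        rw [h.mul _ _ y1 (cz _), h.of_mem (inv_mem hy), πc, one_mul]
      generalize y⁻¹ * c (el i ρ3) = u at d1 d2 d3
      have d4 := comm_mul_left (comm_mul_left d1 (az i)) (comm_inv_left d1)
      have d5 := h.pow (comm_mul_left d4 (az i)) 4
      rw [p.hP.toXS.pow_four (mul_mem (p.hP.norm u d2 _ (aP i)) (aP i)), h.one, h.mul _ _ d4 (az i),
        h.mul _ _ (comm_mul_left d1 (az i)) (comm_inv_left d1), h.mul _ _ d1 (az i), h.inv d1, d3,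
        πa] at d5
      exact absurd d5 (by clear * -; revert i; decide +kernel)
  let q : ℕ → G := fun b => c (Dv ρ3 b) * s * (c (Dv ρ3 b))⁻¹
  have qQ : ∀ b, q b ∈ Q := fun b => h.lx.norm _ (cz _) s sQ
  have θq : ∀ b, θ (q b) = φ (Dv ρ3 b) (θ s) := fun b => by rw [← hφ _ (cz _) s sQ, πc]
  have k3 : ∀ i : Fin 3, ∀ b < 8, (b.testBit i = true ∧ Dv ρ3 b = el i ρ3 * Dv ρ3 (b - 2 ^ (i : ℕ)) ∧
      Dv ρ3 (b - 2 ^ (i : ℕ)) i = 1) ∨ (b.testBit i = false ∧
        Dv ρ3 (b + 2 ^ (i : ℕ)) = el i ρ3 * Dv ρ3 b ∧ Dv ρ3 b i = 1) := by decide +kernel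
  have hq0 : Eqv z (q 0) s := (l.eq_iff (qQ 0) sQ).1 (by
    rw [θq, show Dv ρ3 0 = 1 by decide, map_one]; rfl)
  let q' : ℕ → G := fun b => if b = 0 then s else q b
  have q'Q : ∀ b, q' b ∈ Q := fun b => by
    by_cases e : b = 0 <;> simp [q', e, sQ, qQ]
  have θq' : ∀ b, θ (q' b) = φ (Dv ρ3 b) (θ s) := fun b => by
    by_cases e : b = 0
    · rw [e, show Dv ρ3 0 = 1 by decide, map_one]; rfl
    · simp [q', e, θq]
  refine ⟨π, q', a, fun i => c (el i ρ3), h, ⟨q'Q, fun b => ?_, fun b hb b' hb' => ?_, fun i => ?_,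
    aP, az, πa, fun i => cz _, fun i => πc _, fun i b hb => ?_, fun i b hb => ?_⟩, rfl⟩
  · by_cases e : b = 0
    · simp [q', e, ss]
    · simp [q', e, q, ss, conj_mul]
  · rw [l.comm_iff (q'Q b) (q'Q b'), θq', θq', ld.gram hb hb']
  · obtain ⟨x, hx, e⟩ := ld.mem_E i
    rw [← θq'] at e
    exact ((l.eq_iff (q'Q _) hx.1).1 e.symm).mem p.z_mem hx.2
  · rw [← l.eq_iff (h.lx.norm _ (az i) _ (q'Q b)) (ev_mem_of fun k _ => q'Q k), ← hφ _ (az i) _ (q'Q b),
      πa, θq', aR]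
    rcases k3 i b hb with ⟨e1, e2, e3⟩ | ⟨e1, e2, e3⟩
    · simp only [e1, if_true, ev_cons, ev_nil, mul_one, l.mul _ (q'Q _) _ (q'Q _), θq']
      rw [e2, ld.act_τ1 e3]
    · simp only [e1, Bool.false_eq_true, if_false, ev_cons, ev_nil, mul_one, θq']
      exact ld.act_τ0 e3
  · rw [← l.eq_iff (h.lx.norm _ (cz _) _ (q'Q b)) (ev_mem_of fun k _ => q'Q k), ← hφ _ (cz _) _ (q'Q b),
      πc, θq', aD]
    rcases k3 i b hb with ⟨e1, e2, e3⟩ | ⟨e1, e2, e3⟩
    · simp only [e1, if_true, ev_cons, ev_nil, mul_one, l.mul _ (q'Q _) _ (q'Q _), θq']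
      rw [e2, ld.act_ρ1 e3]
    · simp only [e1, Bool.false_eq_true, if_false, ev_cons, ev_nil, mul_one, θq']
      rw [e2, LD.app]

end Cfsg.Agent.O8C
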