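import Mathlib
import Cfsg.Agent.O8C.Frame
import Cfsg.Agent.O8C.Gen
import Cfsg.Agent.O8C.Tab
import Cfsg.Agent.S0444

/-!
# The graph over the involution centraliser
-/

set_option autoImplicit false
set_option maxRecDepth 100000

namespace Cfsg.Agent.O8C

open Subgroup Cfsg.Agent.TT Cfsg.Agent.LES Cfsg.Agent.XSC Cfsg.Agent.Comp.BN

variable {G : Type*} [Group G]

/-- the tuple of letters -/
noncomputable def tup (z : G) (q : ℕ → G) (r d : Fin 3 → G) (x : G) : ℕ → G × Mo := fun k =>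
  (if k < 8 then q k else if k = 8 then z else if k < 12 then r (Fin.ofNat 3 k) else if k < 18 then
    (if k % 2 = 0 then d (Fin.ofNat 3 (k / 2)) else (d (Fin.ofNat 3 (k / 2)))⁻¹)
    else if k = 18 then x else 1, m k)

def Ql : List (List ℕ) := [[0], [1], [2], [3], [4], [5], [6], [7]]

noncomputable def Dq (z : G) (q : ℕ → G) : Subgroup (G × Mo) := genW (tup z q 1 1 1) ([8] :: Ql)

section
variable {z : G} {q : ℕ → G} {r d : Fin 3 → G} {x : G}

theorem tup_q {b : ℕ} (hb : b < 8) : tup z q r d x b = (q b, m b) := by simp [tup, hb]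
theorem tup_r (i : Fin 3) : tup z q r d x (9 + i) = (r i, m (9 + i)) := by fin_cases i <;> rfl
theorem tup_d (i : Fin 3) : tup z q r d x (12 + 2 * i) = (d i, m (12 + 2 * i)) := by
  fin_cases i <;> rfl

theorem ev_low {W : List ℕ} (h : ∀ k ∈ W, k < 9) : ev (tup z q r d x) W = ev (tup z q 1 1 1) W :=
  ev_congr fun k hk => by
    have := h k hk
    interval_cases k <;> rfl

theorem genW_Dq : genW (tup z q r d x) ([8] :: Ql) = Dq z q :=
  genW_congr fun W hW => ev_low (by revert W; decide)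

theorem low_mem {W : List ℕ} (h : ∀ k ∈ W, k < 9) : ev (tup z q r d x) W ∈ Dq z q := by
  rw [ev_low h]
  refine ev_mem_of fun k hk => ?_
  have := mem_genW (x := tup z q 1 1 1) (ws := [8] :: Ql) (W := [k]) (by
    have := h k hk
    interval_cases k <;> decide)
  simpa [Dq] using this

theorem snd_tup (W : List ℕ) : (ev (tup z q r d x) W).2 = ev m W := snd_ev (fun _ => rfl) W

end

noncomputable def adjC (k : ℕ) (act : ℕ → List ℕ) : Bool :=
  band (eqC val [k, 8] [8, k]) (allN (fun b => band (allL (fun j => Nat.blt j 8) (act b))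
    (bor (eqC val [k, b] (appendL (act b) [k])) (eqC val [k, b] (appendL (act b) [8, k])))) 8)

theorem adj [Finite G] {Q : Subgroup G} {z : G} {q : ℕ → G} (h : Dl Q z (Dq z q) (z, m 8)) {c : G}
    (hc : c * z = z * c) {k : ℕ} {act : ℕ → List ℕ}
    (ha : ∀ b < 8, Eqv z (c * q b * c⁻¹) (ev q (act b))) (e : adjC k act = true) :
    ∃ y ∈ Q, (c * y, m k) ∈ normalizer (Dq z q : Set (G × Mo)) := by
  simp only [adjC, band_eq, allN_eq, allL_eq, bor_eq, Nat.blt_eq, appendL_eq] at e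
  have e1 : m k * m 8 = m 8 * m k := by simpa using orc.eq e.1
  refine exists_adj h hc e1 fun W hW => ?_
  rcases List.mem_cons.1 hW with rfl | hW
  · exact ⟨_, h.mem, by simp [tup, e1], by simpa [tup, conj_eq_of_comm hc] using Eqv.refl z z⟩
  obtain ⟨b, hb, rfl⟩ : ∃ b < 8, W = [b] := by revert W; decide
  obtain ⟨e2, e3⟩ := e.2 b hb
  have e4 : (ev (tup z q 1 1 1) (act b)).1 = ev q (act b) := by
    rw [fst_ev]; exact ev_congr fun j hj => by rw [tup_q (e2 j hj)]
  have e5 := low_mem (z := z) (q := q) (r := 1) (d := 1) (x := 1) fun j hj => (e2 j hj).trans (by decide)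
  have e6 := ha b hb
  rw [ev_cons, ev_nil, mul_one, tup_q hb]
  rcases e3 with e3 | e3
  · refine ⟨_, e5, ?_, e4 ▸ e6⟩
    rw [snd_tup, eq_mul_inv_iff_mul_eq]
    simpa using (orc.eq e3).symm
  · refine ⟨_, mul_mem e5 h.mem, ?_, ?_⟩
    · rw [Prod.snd_mul, snd_tup, eq_mul_inv_iff_mul_eq]
      simpa [mul_assoc] using (orc.eq e3).symm
    · rw [Prod.fst_mul, e4]
      exact e6.trans h.lx.z_sq (Or.inr (h.lx.toXS.mul_z_z _).symm)

structure Bs (Q P : Subgroup G) (z : G) (π : G → T3) (q : ℕ → G) (r d : Fin 3 → G) : Prop where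
  hy : Hyp Q z π
  pr : LXPair Q P z (q 0)
  cP : Nat.card P = 2 ^ 9
  dl : Dl Q z (Dq z q) (z, m 8)
  xg : XG (tup z q 1 1 1) [8] Ql
  qq : ∀ b, q b * q b = 1
  nr : ∀ i, (r i, m (9 + i)) ∈ normalizer (Dq z q : Set (G × Mo))
  nd : ∀ i, (d i, m (12 + 2 * i)) ∈ normalizer (Dq z q : Set (G × Mo))
  cube : ∀ i, d i ^ 3 = 1
  rP : ∀ i, r i ∈ P
  fP : ∀ i : Fin 3, q (2 ^ (i : ℕ)) ∈ P
  πr : ∀ i, π (r i) = el i τ
  πd : ∀ i, π (d i) = el i ρ3

theorem b1 : frC val 8 [0, 1, 2, 3, 4, 5, 6, 7] (fun i => 7 - i) = true := by decide +kernel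
theorem b2 : ∀ i : Fin 3, adjC (9 + i) (aR i) = true ∧ adjC (12 + 2 * i) (aD i) = true ∧
    eqC val [12 + 2 * i, 12 + 2 * i, 12 + 2 * i] [] = true ∧
    allL (fun e => bor (eqC val [9 + i, e] [e, 9 + i]) (eqC val [9 + i, e] [e, 0, 9 + i]))
      [0, 1, 2, 4] = true := by decide +kernel
theorem b3 : allL (fun V => bor (anyL (fun e => ncomC val V [e]) [0, 1, 2, 4]) (onC 279 V))
    (nfL [8] Ql) = true := by decide +kernel

theorem cube_m (i : Fin 3) : m (12 + 2 * i) ^ 3 = 1 := by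
  simpa [pow_succ, mul_assoc] using orc.eq (b2 i).2.2.1

theorem Hyp.exists_bs [Finite G] {Q P : Subgroup G} {z s : G} {π0 : G → T3} (h0 : Hyp Q z π0)
    (p : LXPair Q P z s) (hP : Nat.card P = 2 ^ 9) : ∃ π q r d, Bs Q P z π q r d := by
  obtain ⟨π, q, a, d, h, f, rfl⟩ := h0.exists_fm p hP
  obtain ⟨dl, xg⟩ := dl_of_frame h.lx (t := tup z q 1 1 1) (fun _ => rfl) orc (c := 8) rfl
    (ls := [0, 1, 2, 3, 4, 5, 6, 7]) (fun i hi => by
      rw [tup_q (by revert i; decide)]; exact ⟨f.qQ i, f.qq i⟩) (fun i hi j hj => by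
      have h1 : i < 8 := by revert i; decide
      have h2 : j < 8 := by revert j; decide
      rw [tup_q h1, tup_q h2]; exact f.cm i h1 j h2) (by decide) h.card b1 (l := Ql) rfl
  replace dl : Dl Q z (Dq z q) (z, m 8) := dl
  choose y yQ hy using fun i => adj dl (f.az i) (f.acta i) (b2 i).1
  choose y' yQ' hy' using fun i => adj dl (f.dz i) (f.actd i) (b2 i).2.1
  have h4 : ∀ i : Fin 3, m (12 + 2 * i) ^ 4 = m (12 + 2 * i) := fun i => by
    rw [pow_succ, cube_m, one_mul]
  have eP : ∀ e ∈ [0, 1, 2, 4], q e ∈ P := by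
    simpa using ⟨p.hP.z_mem, f.fP 0, f.fP 1, f.fP 2⟩
  refine ⟨π, q, fun i => a i * y i, fun i => (d i * y' i) ^ 4, h, p, hP, dl, xg, f.qq, hy,
    fun i => by simpa [h4] using pow_mem (hy' i) 4, fun i => ?_, fun i => mul_mem (f.aP i) ?_, f.fP,
    fun i => ?_, fun i => ?_⟩
  · rw [← pow_mul, mul_comm, pow_mul]
    rcases dl.ker (pow_mem (hy' i) 3) (cube_m i) with e | e <;>
      rw [show (d i * y' i) ^ 3 = _ from congrArg Prod.fst e]
    · simp
    · rw [show 4 = 2 * 2 from rfl, pow_mul, pow_two z, h.lx.z_sq, one_pow]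
  · obtain ⟨δ, hδ, e⟩ := dl.exists_of_mem (yQ i)
    obtain ⟨V, hV, rfl⟩ := xg.nf hδ
    rcases (bor_eq _ _).1 ((allL_eq _ _).1 b3 V hV) with e1 | e1
    · exfalso
      obtain ⟨b, hb, e1⟩ := (anyL_eq _ _).1 e1
      have hb' : b < 8 := by clear e1; revert b; decide
      have m1 : (q b, m b) ∈ Dq z q := by
        simpa [tup_q hb'] using low_mem (z := z) (q := q) (r := 1) (d := 1) (x := 1) (W := [b])
          (by simpa using hb'.trans (by decide))
      have m0 : (q 0, m 0) ∈ Dq z q := by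
        simpa [tup_q] using low_mem (z := z) (q := q) (r := 1) (d := 1) (x := 1) (W := [0]) (by simp)
      have e2 : Eqv (q 0) (a i * y i * q b * (a i * y i)⁻¹) (q b) := by
        rcases (bor_eq _ _).1 ((allL_eq _ _).1 (b2 i).2.2.2 b hb) with e2 | e2
        · exact Or.inl (congrArg Prod.fst (dl.gr.eq (dl.conj_mem (hy i) m1) m1 (by
            simpa [mul_inv_eq_iff_eq_mul] using orc.eq e2)))
        · exact Or.inr (congrArg Prod.fst (dl.gr.eq (dl.conj_mem (hy i) m1) (mul_mem m1 m0) (by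
            simpa [mul_inv_eq_iff_eq_mul, ← mul_assoc] using orc.eq e2)))
      have e3 := (e2.conj (comm_inv_left (p.hP.z_comm _ (f.aP i)))).trans p.hP.z_sq
        (p.hP.toXS.conj (inv_mem (f.aP i)) (eP b hb))
      rw [show (a i)⁻¹ * (a i * y i * q b * (a i * y i)⁻¹) * (a i)⁻¹⁻¹ = y i * q b * (y i)⁻¹ by group] at e3
      rcases h.lx.toXS.conj (yQ i) (f.qQ b) with e4 | e4
      · refine orc.ne e1 ?_
        have := congrArg Prod.snd (dl.gl.eq (mul_mem hδ m1) (mul_mem m1 hδ) (by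
          simpa [e] using comm_of_conj_eq e4))
        simpa [appendL_eq, snd_tup] using this
      · rw [e4] at e3
        exact e3.elim (fun e => h.lx.z_ne (mul_eq_left.1 e)) fun e => p.ne (mul_left_cancel e).symm
    · rw [← e]
      refine genOn_le (H := P.comap (MonoidHom.fst G Mo)) (fun k hk => ?_) (ev_mem_genOn e1)
      have : k < 9 := by
        by_contra h9
        rw [Nat.testBit_lt_two_pow (lt_of_lt_of_le (by norm_num : 279 < 2 ^ 9)
          (Nat.pow_le_pow_right (by norm_num) (by omega)))] at hk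
        exact Bool.noConfusion hk
      interval_cases k <;> first | exact absurd hk (by decide) | exact eP _ (by decide) | exact p.z_mem
  · rw [h.mul _ _ (f.az i) (h.lx.z_comm _ (yQ i)), h.of_mem (yQ i), mul_one, f.πa]
  · rw [h.pow (comm_mul_left (f.dz i) (h.lx.z_comm _ (yQ' i))), h.mul _ _ (f.dz i)
      (h.lx.z_comm _ (yQ' i)), h.of_mem (yQ' i), mul_one, f.πd]
    revert i; decide +kernel

end Cfsg.Agent.O8C
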