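import Mathlib
import Cfsg.Agent.O8C.Base

/-!
# The graph over the involution centraliser, II
-/

set_option autoImplicit false
set_option maxRecDepth 100000

namespace Cfsg.Agent.O8C

open Subgroup Cfsg.Agent.TT Cfsg.Agent.LES Cfsg.Agent.XSC Cfsg.Agent.Comp.BN

theorem gen3 {T : Subgroup T3} (h1 : ∀ i, el i τ ∈ T) (h2 : ∀ i, el i τ' ∈ T) (σ : T3) : σ ∈ T := by
  have h : ∀ i (y : S3), el i y ∈ T := fun i y => by
    have a := h1 i
    have b := h2 i
    rcases S0444.perm3_cases y with rfl | rfl | rfl | rfl | rfl | rfl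
    · exact el_one i ▸ T.one_mem
    · exact a
    · exact b
    · exact el_mul i _ _ ▸ T.mul_mem a b
    · exact el_mul i _ _ ▸ T.mul_mem b a
    · exact el_mul i _ _ ▸ T.mul_mem (el_mul i _ _ ▸ T.mul_mem a b) a
  have : σ = el 0 (σ 0) * el 1 (σ 1) * el 2 (σ 2) := by
    ext1 j; fin_cases j <;> simp [el]
  exact this ▸ T.mul_mem (T.mul_mem (h 0 _) (h 1 _)) (h 2 _)

theorem commute_f {K : Type*} [Group K] {g d e : K} (h1 : Commute g d) (h2 : Commute g e) (σ : S3) :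
    Commute g (S0444.f d e σ) := by
  unfold S0444.f
  split_ifs
  exacts [Commute.one_right g, h2, h1, h1.mul_right h2, h2.mul_right h1,
    (h1.mul_right h2).mul_right h1]

theorem exists_psi {K : Type*} [Group K] {R D : Fin 3 → K} (h1 : ∀ i, R i * R i = 1)
    (h2 : ∀ i, D i ^ 3 = 1) (h3 : ∀ i, R i * D i * (R i)⁻¹ = (D i)⁻¹)
    (h4 : ∀ i j, Commute (R i) (R j)) (h5 : ∀ i j, Commute (D i) (D j))
    (h6 : ∀ i j, i ≠ j → Commute (R i) (D j)) :
    ∃ ψ : T3 →* K, ∀ i, ψ (el i τ) = R i ∧ ψ (el i τ') = R i * D i := by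
  have e : ∀ i, R i * D i = (D i)⁻¹ * R i := fun i => by rw [← h3]; group
  have e' : ∀ i, (D i)⁻¹ * (D i)⁻¹ = D i := fun i => by
    rw [← mul_inv_rev, inv_eq_iff_mul_eq_one, ← h2 i, pow_succ, pow_two]
  let φ : Fin 3 → S3 →* K := fun i => MonoidHom.mk' (S0444.f (R i) (R i * D i))
    (S0444.f_mul (h1 i) (by nth_rewrite 2 [e]; rw [mul_assoc, mul_inv_cancel_left, h1]) (by
      rw [← mul_assoc, h1, one_mul, mul_assoc (R i * D i), ← mul_assoc (R i), h1, one_mul, e,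
        mul_assoc, e, ← mul_assoc, e']))
  have hc : Pairwise fun i j => ∀ x y, Commute (φ i x) (φ j y) := fun i j hij x y =>
    commute_f (commute_f (h4 j i) ((h4 j i).mul_right (h6 j i hij.symm)) x).symm
      (commute_f ((h4 j i).mul_left (h6 i j hij).symm) (((h4 j i).mul_right (h6 j i hij.symm)).mul_left
        ((h6 i j hij).symm.mul_right (h5 j i))) x).symm y
  have k : ∀ i (y : S3), el i y = Pi.mulSingle i y := fun i y => by
    ext1 j; simp [el, Pi.mulSingle_apply]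
  exact ⟨MonoidHom.noncommPiCoprod φ hc, fun i => by
    rw [k, k, MonoidHom.noncommPiCoprod_mulSingle, MonoidHom.noncommPiCoprod_mulSingle]
    exact ⟨rfl, rfl⟩⟩

theorem g1 : ∀ i j : Fin 3, eqC val [9 + i, 9 + i] [] = true ∧
    eqC val [9 + i, 9 + j] [9 + j, 9 + i] = true ∧
    eqC val [12 + 2 * i, 12 + 2 * j] [12 + 2 * j, 12 + 2 * i] = true ∧
    eqC val [12 + 2 * i, 9 + i, 12 + 2 * i] [9 + i] = true ∧
    (i ≠ j → eqC val [9 + i, 12 + 2 * j] [12 + 2 * j, 9 + i] = true) := by decide +kernel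

theorem g2 : allN (fun k => eqC val [X.I k, k] []) 19 = true := by decide +kernel

theorem m_inv (k : ℕ) : m (X.I k) * m k = 1 := by
  by_cases hk : k < 19
  · simpa using orc.eq ((allN_eq _ _).1 g2 k hk)
  · rw [I_of_le X (not_lt.1 hk), m, cut_le _ (not_lt.1 hk), one_mul]

variable {G : Type*} [Group G]

namespace Bs

variable {Q P : Subgroup G} {z : G} {π : G → T3} {q : ℕ → G} {r d : Fin 3 → G}
  (h : Bs Q P z π q r d)
include h

theorem eqP {γ : G × Mo} (h1 : γ ∈ normalizer (Dq z q : Set (G × Mo))) (h2 : γ.2 = 1)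
    (h3 : γ.1 = 1 ∨ γ.1 = q 0) : γ = 1 :=
  (h.dl.ker h1 h2).resolve_right fun e => by
    rw [e] at h3
    exact h3.elim h.hy.lx.z_ne h.pr.ne.symm

theorem rr (i : Fin 3) : ((r i, m (9 + i)) : G × Mo) * (r i, m (9 + i)) = 1 :=
  h.eqP (mul_mem (h.nr i) (h.nr i)) (by simpa using orc.eq (g1 i i).1) (h.pr.hP.toXS.sq (h.rP i))

theorem ov {x : G} (hx : x * x = 1) : Ov (tup z q r d x) m val X.I := by
  refine ⟨fun _ => rfl, orc, fun k => Prod.ext ?_ (m_inv k)⟩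
  have r2 := fun i => congrArg Prod.fst (h.rr i)
  by_cases hk : k < 19
  · interval_cases k <;>
      first
        | exact h.qq _ | exact h.hy.lx.z_sq | exact r2 0 | exact r2 1 | exact r2 2
        | exact inv_mul_cancel _ | exact mul_inv_cancel _ | exact hx
  · rw [I_of_le X (not_lt.1 hk)]
    simp [tup, show ¬ k < 8 by omega, show ¬ k = 8 by omega, show ¬ k < 12 by omega,
      show ¬ k < 18 by omega, show ¬ k = 18 by omega]

theorem co [Finite G] (x : G) : CO z (tup z q r d x) 262143 := by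
  have c3 : ∀ i, ((d i, m (12 + 2 * i)) : G × Mo) ^ 3 = 1 := fun i => Prod.ext (h.cube i) (cube_m i)
  have cj : ∀ (g : G × Mo) i, (g * (d i, m (12 + 2 * i)) * g⁻¹) ^ 3 = 1 := fun g i => by
    rw [conj_pow, c3, mul_one, mul_inv_cancel]
  obtain ⟨ψ, hψ⟩ := exists_psi (R := fun i => ((r i, m (9 + i)) : G × Mo))
    (D := fun i => (d i, m (12 + 2 * i))) h.rr c3
    (fun i => h.dl.eq_of_cube (mul_mem (mul_mem (h.nr i) (h.nd i)) (inv_mem (h.nr i))) (inv_mem (h.nd i))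
      (by simpa [mul_inv_eq_iff_eq_mul, eq_inv_mul_iff_mul_eq] using orc.eq (g1 i i).2.2.2.1) (cj _ i)
      (by rw [inv_pow, c3, inv_one]))
    (fun i j => commutatorElement_eq_one_iff_commute.1 (h.eqP
      (mul_mem (mul_mem (mul_mem (h.nr i) (h.nr j)) (inv_mem (h.nr i))) (inv_mem (h.nr j)))
      (by simpa [commutatorElement_def, mul_inv_eq_iff_eq_mul] using orc.eq (g1 i j).2.1)
      ((h.pr.hP.toXS.conj (h.rP i) (h.rP j)).imp (fun e => mul_inv_eq_one.2 e) fun e => by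
        change r i * r j * (r i)⁻¹ * (r j)⁻¹ = _
        rw [e, h.pr.hP.z_comm _ (h.rP j), mul_inv_cancel_right])))
    (fun i j => comm_of_conj_eq (h.dl.eq_of_cube
      (mul_mem (mul_mem (h.nd i) (h.nd j)) (inv_mem (h.nd i))) (h.nd j)
      (by simpa [mul_inv_eq_iff_eq_mul] using orc.eq (g1 i j).2.2.1) (cj _ j) (c3 j)))
    (fun i j hij => comm_of_conj_eq (h.dl.eq_of_cube
      (mul_mem (mul_mem (h.nr i) (h.nd j)) (inv_mem (h.nr i))) (h.nd j)
      (by simpa [mul_inv_eq_iff_eq_mul] using orc.eq ((g1 i j).2.2.2.2 hij)) (cj _ j) (c3 j)))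
  have n1 : ∀ σ, ψ σ ∈ normalizer (Dq z q : Set (G × Mo)) ⊓ genOn (tup z q r d x) 262143 := by
    have a : ∀ i : Fin 3, tup z q r d x (9 + i) ∈ genOn (tup z q r d x) 262143 ∧
        tup z q r d x (12 + 2 * i) ∈ genOn (tup z q r d x) 262143 := fun i =>
      ⟨mem_genOn (by revert i; decide), mem_genOn (by revert i; decide)⟩
    simp only [tup_r, tup_d] at a
    refine fun σ => mem_comap.1 (gen3 (fun i => ?_) (fun i => ?_) σ)
    · rw [mem_comap, (hψ i).1]; exact ⟨h.nr i, (a i).1⟩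
    · rw [mem_comap, (hψ i).2]; exact ⟨mul_mem (h.nr i) (h.nd i), mul_mem (a i).1 (a i).2⟩
  have cz := fun σ => h.dl.fst_comm (n1 σ).1
  have n2 : ∀ σ, π (ψ σ).1 = σ := by
    refine gen3 (T := (MonoidHom.mk' (fun σ => π (ψ σ).1) fun a b => by
      rw [map_mul, Prod.fst_mul, h.hy.mul _ _ (cz a) (cz b)]).eqLocus (MonoidHom.id _))
      (fun i => ?_) fun i => ?_
    · change π (ψ _).1 = _
      rw [(hψ i).1]; exact h.πr i
    · change π (ψ _).1 = _
      rw [(hψ i).2, Prod.fst_mul, h.hy.mul _ _ (h.dl.fst_comm (h.nr i)) (h.dl.fst_comm (h.nd i)), h.πr,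
        h.πd, ← el_mul]
      exact congrArg (el i) (by decide)
  let Γ : Subgroup (G × Mo) :=
    { carrier := {γ | ∃ δ ∈ Dq z q, ∃ σ, γ = δ * ψ σ}
      one_mem' := ⟨1, one_mem _, 1, by simp⟩
      mul_mem' := by
        rintro _ _ ⟨a, ha, σ, rfl⟩ ⟨b, hb, σ', rfl⟩
        exact ⟨_, mul_mem ha (h.dl.conj_mem (n1 σ).1 hb), σ * σ', by rw [map_mul]; group⟩
      inv_mem' := by
        rintro _ ⟨a, ha, σ, rfl⟩
        exact ⟨_, h.dl.conj_mem (n1 σ⁻¹).1 (inv_mem ha), σ⁻¹, by rw [map_inv]; group⟩ }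
  have l1 : genOn (tup z q r d x) 262143 ≤ Γ := genOn_le fun k hk => by
    have a : ∀ i : Fin 3, tup z q r d x (9 + i) ∈ Γ := fun i =>
      ⟨1, one_mem _, el i τ, by rw [one_mul, (hψ i).1, tup_r]⟩
    have b : ∀ i : Fin 3, tup z q r d x (12 + 2 * i) ∈ Γ := fun i =>
      ⟨1, one_mem _, el i ρ3, by
        rw [one_mul, ρ3, el_mul, map_mul, (hψ i).1, (hψ i).2, ← mul_assoc, h.rr, one_mul, tup_d]⟩
    have c : ∀ k < 9, tup z q r d x k ∈ Γ := fun k hk =>
      ⟨_, low_mem (r := r) (d := d) (x := x) (W := [k]) (by simpa using hk), 1, by simp⟩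
    have e : ∀ i : Fin 3, tup z q r d x (13 + 2 * i) = (tup z q r d x (12 + 2 * i))⁻¹ := fun i =>
      Prod.ext (by fin_cases i <;> rfl) (eq_inv_of_mul_eq_one_left (by
        have := m_inv (12 + 2 * i)
        fin_cases i <;> exact this))
    have hk' : k < 18 := by simpa using (testBit_ones 18 k).symm.trans hk
    by_cases h9 : k < 9
    · exact c k h9
    interval_cases k
    exacts [a 0, a 1, a 2, b 0, e 0 ▸ inv_mem (b 0), b 1, e 1 ▸ inv_mem (b 1), b 2, e 2 ▸ inv_mem (b 2)]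
  have l2 : ∀ γ ∈ Γ, γ ∈ normalizer (Dq z q : Set (G × Mo)) := by
    rintro _ ⟨a, ha, σ, rfl⟩
    exact mul_mem (le_normalizer ha) (n1 σ).1
  have l3 : ∀ γ ∈ Γ, γ.1 ∈ Q → γ ∈ Dq z q := by
    rintro _ ⟨a, ha, σ, rfl⟩ e
    have := h.hy.of_mem ((mul_mem_cancel_left (h.dl.fst_mem ha)).1 e)
    rw [n2] at this
    simpa [this] using ha
  refine ⟨fun γ hγ e => h.dl.gr γ (l3 γ (l1 hγ) ?_) e, fun γ hγ e =>
    h.dl.gl γ (l3 γ (l1 hγ) (e ▸ Q.one_mem)) e, fun g hg => ?_, fun γ hγ => h.dl.fst_comm (l2 γ (l1 hγ))⟩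
  · rcases h.dl.ker (l2 γ (l1 hγ)) e with e | e <;> rw [e]
    exacts [Q.one_mem, h.hy.lx.z_mem]
  · obtain ⟨δ, hδ, e⟩ := h.dl.exists_of_mem (h.hy.mem_of_eq hg (cz (π g)) (n2 _).symm)
    refine ⟨δ * ψ (π g), mul_mem (genW_le_genOn (by decide +kernel) (genW_Dq.ge hδ)) (n1 _).2, ?_⟩
    rw [Prod.fst_mul, e, inv_mul_cancel_right]

end Bs

end Cfsg.Agent.O8C
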