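import Mathlib
import Cfsg.Agent.O8C.XStep

/-!
# The action of the new involution
-/

set_option autoImplicit false
set_option maxRecDepth 100000

namespace Cfsg.Agent.O8C

open Subgroup Cfsg.Agent.TT Cfsg.Agent.LES Cfsg.Agent.XSC Cfsg.Agent.Comp.BN

variable {G : Type*} [Group G]

/-- known graphs and relators over the involution centraliser -/
structure StB (z : G) (t : ℕ → G × Mo) (Ss : List ℕ) (Ks : List (List ℕ)) : Prop where
  st : St t m val X.I Ss Ks
  card : Nat.card (centralizer ({z} : Set G)) = 110592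
  co : CO z t 262143
  hz : (ev t [8]).1 = z
  ne : z ≠ 1

def Kx : List (List ℕ) := [[18, 0, 18, 0], [18, 1, 18, 1], [18, 2, 18, 2], [18, 4, 18, 4],
  [18, 9, 18, 9], [18, 10, 18, 10], [18, 11, 18, 11], [18, 8, 18, 0, 8], [18, 6, 18, 6, 9],
  [18, 5, 18, 5, 10], [18, 3, 18, 3, 11]]

theorem allP_of {α : Type} {p : α → Prop} {l : List α} (h : ∀ a ∈ l, p a) : AllP p l := by
  induction l with
  | nil => trivial
  | cons a l ih => exact ⟨h a List.mem_cons_self, ih fun b hb => h b (List.mem_cons_of_mem _ hb)⟩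

theorem k1 : allL (fun W => eqC val W []) Kx = true := by decide +kernel

def Rw (a b c : Bool) : List ℕ :=
  (if a then [9] else []) ++ (if b then [10] else []) ++ if c then [11] else []

theorem k2 : allL (onC 511) (nfL [8] Ql) = true := by decide +kernel

theorem Bs.nf [Finite G] {Q P : Subgroup G} {z : G} {π : G → T3} {q : ℕ → G} {r d : Fin 3 → G}
    (h : Bs Q P z π q r d) (x : G) {g : G} (hg : g * z = z * g) (g2 : g * g = 1) :
    ∃ k, k * z = z * k ∧ ∃ V ∈ nfL [8] Ql, ∃ a b c,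
      k * g * k⁻¹ = (ev (tup z q r d x) (V ++ Rw a b c)).1 := by
  have h1 : π g * π g = 1 := by rw [← h.hy.mul _ _ hg hg, g2, h.hy.one]
  have h2 : ∀ σ : S3, σ * σ = 1 → ∃ κ : S3, ∃ b : Bool, κ * σ * κ⁻¹ = if b then τ else 1 := by decide
  choose κ ε e using fun i => h2 (π g i) (congrFun h1 i)
  obtain ⟨k, hk, rfl⟩ := h.hy.surj κ
  have rz : ∀ i (b : Bool), (if b then r i else 1) * z = z * if b then r i else 1 := fun i b => by
    cases b
    exacts [by simp, h.dl.fst_comm (h.nr i)]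
  have rp : ∀ i (b : Bool), π (if b then r i else 1) = el i (if b then τ else 1) := fun i b => by
    cases b
    exacts [h.hy.one.trans (el_one i).symm, h.πr i]
  have e1 : (ev (tup z q r d x) (Rw (ε 0) (ε 1) (ε 2))).1 = (if ε 0 then r 0 else 1) *
      (if ε 1 then r 1 else 1) * if ε 2 then r 2 else 1 := by
    unfold Rw
    cases ε 0 <;> cases ε 1 <;> cases ε 2 <;> simp [tup, mul_assoc] <;> rfl
  have c1 := comm_mul_left hk hg
  have c2 := comm_mul_left (rz 0 (ε 0)) (rz 1 (ε 1))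
  obtain ⟨δ, hδ, e2⟩ := h.dl.exists_of_mem (h.hy.mem_of_eq (comm_mul_left c1 (comm_inv_left hk))
    (comm_mul_left c2 (rz 2 (ε 2))) (by
      rw [h.hy.mul _ _ c1 (comm_inv_left hk), h.hy.mul _ _ hk hg, h.hy.inv hk, h.hy.mul _ _ c2 (rz _ _),
        h.hy.mul _ _ (rz _ _) (rz _ _), rp, rp, rp]
      ext1 j
      rw [Pi.mul_apply, Pi.mul_apply, Pi.inv_apply, e]
      fin_cases j <;> simp [el]))
  obtain ⟨V, hV, rfl⟩ := h.xg.nf hδ
  refine ⟨k, hk, V, hV, ε 0, ε 1, ε 2, ?_⟩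
  rw [ev_append, Prod.fst_mul, e1, ← ev_congr_on (x := tup z q 1 1 1) (S := 511) (fun j hj => ?_)
    ((allL_eq _ _).1 k2 V hV), e2, inv_mul_cancel_right]
  have : j < 9 := by simpa using (testBit_ones 9 j).symm.trans hj
  interval_cases j <;> rfl

theorem exists_stB [Finite G] {Q P : Subgroup G} {z s : G} {π0 : G → T3} (h0 : Hyp Q z π0)
    (p : LXPair Q P z s) (hP : Nat.card P = 2 ^ 9) : ∃ t, StB z t [262143] Kx ∧
      (ev t [1, 2, 4]).1 ∈ Q ∧ ∀ g, g * z = z * g → g * g = 1 → ∃ k, k * z = z * k ∧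
        ∃ V ∈ nfL [8] Ql, ∃ a b c, k * g * k⁻¹ = (ev t (V ++ Rw a b c)).1 := by
  obtain ⟨π, q, r0, d, h1⟩ := h0.exists_bs p hP
  obtain ⟨r, x, h, hx, hk⟩ := h1.twist
  have o := h.ov hx.xx
  have r2 : ∀ i, r i * r i = 1 := fun i => congrArg Prod.fst (h.rr i)
  have a : ∀ b, x * b = b * x → b * b = 1 → x * (b * (x * b)) = 1 := fun b e e' => by
    rw [e, ← mul_assoc b, e', one_mul, hx.xx]
  have c : ∀ i : Fin 3, x * (q (7 - 2 ^ (i : ℕ)) * (x * (q (7 - 2 ^ (i : ℕ)) * r i))) = 1 := fun i => by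
    have := hk i
    rw [inv_eq_of_mul_eq_one_right (h.qq _)] at this
    rw [← mul_assoc x (q _) (r i), ← mul_assoc (q _), ← mul_assoc (q _), this, mul_assoc, r2, mul_one,
      hx.xx]
  have k : ∀ W ∈ Kx, (ev (tup z q r d x) W).1 = 1 := by
    simp only [Kx, List.forall_mem_cons, ev_cons, ev_nil, mul_one, Prod.fst_mul]
    refine ⟨a _ (h.pr.hP.z_comm x hx.xP) (h.qq 0), a _ (hx.xf 0) (h.qq _), a _ (hx.xf 1) (h.qq _),
      a _ (hx.xf 2) (h.qq _), a _ (hx.xr 0) (r2 0), a _ (hx.xr 1) (r2 1), a _ (hx.xr 2) (r2 2), ?_,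
      c 0, c 1, c 2, by simp⟩
    change x * (z * (x * (q 0 * z))) = 1
    rw [← mul_assoc x (q 0), ← mul_assoc z, ← mul_assoc z,
      ← h.pr.hP.toXS.comm_of_ne hx.xP h.pr.z_mem hx.xz, mul_assoc x z, h.hy.lx.z_sq, mul_one, hx.xx]
  exact ⟨_, ⟨⟨o, ⟨(h.co x).gr, trivial⟩, allP_of fun W hW =>
    Prod.ext (k W hW) (o.snd_eq ((allL_eq _ _).1 k1 W hW))⟩, h.hy.card_cent, h.co x, mul_one _,
    h.hy.lx.z_ne⟩, h.dl.fst_mem (low_mem (by decide)), fun g => h.nf x⟩

end Cfsg.Agent.O8C
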