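import Cfsg.Agent.O8C.StepV

set_option autoImplicit false
set_option Elab.async false
set_option maxRecDepth 100000

namespace Cfsg.Agent.O8C

open Cfsg.Agent.Comp.BN Cfsg.Agent.XSC Cfsg.Agent.TT Cfsg.Agent.LES Subgroup

def PL : Pres := ⟨[0, 1, 2, 3],
  [[0, 3, 0, 3],
   [1, 2, 1, 2],
   [0, 1, 0, 1, 0, 1],
   [2, 3, 2, 3, 2, 3],
   [0, 1, 0, 1, 0, 2, 1, 2],
   [0, 2, 0, 2, 0, 2, 0, 2],
   [0, 2, 3, 2, 3, 2, 0, 3],
   [0, 1, 0, 2, 0, 1, 2, 0, 2],
   [0, 1, 2, 0, 1, 2, 0, 2, 1],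
   [0, 2, 0, 2, 3, 2, 0, 2, 3],
   [0, 1, 3, 2, 0, 1, 3, 2, 0, 1, 3, 2, 0, 1, 3, 2, 0, 1, 3, 2, 0, 1, 3, 2, 0, 1, 3, 2],
   [1, 2, 3, 1, 2, 3, 2, 1, 3, 1, 2, 3, 1, 2, 3, 2, 1, 3]]⟩

noncomputable def sAL_t : FT := (.node (.node (.node (.node (.node (.node (.node (.node (.leaf (nat_lit 0x3000000000024000000000001000000)) (.leaf (nat_lit 0x1fd0001f50001f100017e00017900018a0001960001a600000200001500008000000200006a))) (.leaf (nat_lit 0xfd0000f10000b100000100000300004000000200002b))) (.node (.node (.leaf (nat_lit 0x7d00007900002600000100000000002000000100000a)) (.leaf (nat_lit 0x27900027600019100026100006a00000000002400000600000000001b))) (.leaf (nat_lit 0x61000003000035)))) (.node (.node (.node (.leaf (nat_lit 0x1100000200000d)) (.leaf (nat_lit 0x23200020e0002310001bd00000000002400007000000000006c))) (.leaf (nat_lit 0x13d00013900009100008200007d00011a00011500010500000500001b00005000000400003e))) (.node (.leaf (nat_lit 0x31000001000030)) (.leaf (nat_lit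 0x1bd0001b10000fd0001aa0001b600000000000900007000000400006e))))) (.node (.node (.node (.node (.leaf (nat_lit 0x9000002000008)) (.leaf (nat_lit 0x21900020600020d00020500021a000000000009000087000004000087))) (.leaf (nat_lit 0x49000001000024))) (.node (.leaf (nat_lit 0x9d00004100003900004200009e000000000006000028000002000028)) (.leaf (nat_lit 0x19d0001910001750000c5000112000000000009000068000004000044)))) (.node (.node (.node (.leaf (nat_lit 0x19000002000017)) (.leaf (nat_lit 0x17500024900025d00004e00000000002400005e000000000014))) (.leaf (nat_lit 0x59000002000030))) (.node (.leaf (nat_lit 0xdd0000d900006500007a0000860000890000560000ca000007000015000038000003000033)) (.leaf (nat_lit 0x79000003000078)))))) (.node (.node (.node (.node (.node (.leaf (nat_lit 0xd00000100000e000001000000000004000001000004)) (.leaf (nat_lit 0x1e200020a00020e0002090001fa0001f50001f100017e00000500001b00007800000400005f))) (.leaf (nat_lit 0x10d0000fd0000ed0000e10000c900005500008a00000000000f000044000003000022)))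 (.node (.leaf (nat_lit 0x2500000300000a)) (.leaf (nat_lit 0x18d00018600018900000000000000006400000400005e)))) (.node (.node (.node (.leaf (nat_lit 0x15000002000014)) (.leaf (nat_lit 0x23900023d0000f100000000002400006e00000000002d))) (.leaf (nat_lit 0x13500014d00012e00000000002400004d00000000004c))) (.node (.leaf (nat_lit 0x35000001000034)) (.leaf (nat_lit 0x1cd0001c900012d00009a00015a000001000009000074000003000057))))) (.node (.node (.node (.node (.leaf (nat_lit 0xd000003000004)) (.leaf (nat_lit 0x2050002260001c2000000000024000082000000000070))) (.leaf (nat_lit 0x4d00000100004c))) (.node (.leaf (nat_lit 0x2d00000300002b)) (.leaf (nat_lit 0x1ad0001a100010d00000000000000006c000004000040)))) (.node (.node (.node (.leaf (nat_lit 0x1d00000300001b)) (.leaf (nat_lit 0xba00026e0001ad00025a00000000002400001700000000005b))) (.leaf (nat_lit 0x5d000002000031))) (.node (.leaf (nat_lit 0xed0000dd0000d90000610000ba00000000000600003c00000200002d)) (.leaf (nat_lit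 0x1ed0001e90001610000c200017200000100000600007c00000100005d))))))) (.node (.node (.node (.node (.node (.node (.leaf (nat_lit 0xb000000000024000000000003000000)) (.leaf (nat_lit 0x2050001fd0001f9000001000000000082000001000079))) (.leaf (nat_lit 0x1050000f900007200000100000300004200000200001d))) (.node (.node (.leaf (nat_lit 0x8500007900002100001d00004a000001000006000022000001000013)) (.leaf (nat_lit 0x28600018e00027500027a00002e00000000002400000700000000000b))) (.leaf (nat_lit 0x1850001810000d100016e0001690001650000c200017600000100001b00006200000100005e)))) (.node (.node (.node (.leaf (nat_lit 0x13000002000007)) (.leaf (nat_lit 0x2460002160002350000bd000000000024000031000000000013))) (.leaf (nat_lit 0x12900011d00008100009200013a00013e00014500013900009100000300001500004a00000000000a))) (.node (.leaf (nat_lit 0x33000001000015)) (.leaf (nat_lit 0x7300000300004c))))) (.node (.node (.node (.node (.leaf (nat_lit 0xb000004000008)) (.leaf (nat_lit 0x1fe0002260001b900000000002400007e00000000005a)))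 (.leaf (nat_lit 0x12500012100008d00008200011e00000100000600004a000001000048))) (.node (.leaf (nat_lit 0x2b000004000028)) (.leaf (nat_lit 0x1a50001990000ee00000000000000006a00000400003c)))) (.node (.node (.node (.leaf (nat_lit 0x1b000004000014)) (.leaf (nat_lit 0x19600024d0000e1000000000024000062000000000033))) (.leaf (nat_lit 0x5b00000400005a))) (.node (.leaf (nat_lit 0xe50000de0000e100000100000300003a000002000033)) (.leaf (nat_lit 0x7b000001000059)))))) (.node (.node (.node (.node (.node (.leaf (nat_lit 0x7000004000006)) (.leaf (nat_lit 0x87000003000080))) (.leaf (nat_lit 0x1150001090000ae00010200010e00011100008500000600000c00004600000300001f))) (.node (.leaf (nat_lit 0x9500009100008e000000000003000026000003000024)) (.leaf (nat_lit 0x1950001850001810000d50000e2000000000009000066000004000038)))) (.node (.node (.node (.leaf (nat_lit 0x17000003000008)) (.leaf (nat_lit 0x1c60002410001ad00000000002400005b000000000068))) (.leaf (nat_lit 0x57000004000026)))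 (.node (.leaf (nat_lit 0x37000001000019)) (.leaf (nat_lit 0x1d50001cd0001c90001550001ca0001ce0001d100015e00000200001b000076000003000058))))) (.node (.node (.node (.node (.leaf (nat_lit 0x3100001100000d00000900000100000900000e00003200000300001b00000d00000100000d)) (.leaf (nat_lit 0x21e00022e00000000002400006e00000200006a))) (.leaf (nat_lit 0x4f000001000025))) (.node (.leaf (nat_lit 0xb10000ad00007100006d00004d00001e00005a00000100000f00002d000001000017)) (.leaf (nat_lit 0x1b50001a50001950001890001750000c100016600000100000f00006e00000100005a)))) (.node (.node (.node (.leaf (nat_lit 0x1f000001000009)) (.leaf (nat_lit 0x26600008900025d00001e000000000024000006000000000008))) (.leaf (nat_lit 0x5f00000200005e))) (.node (.leaf (nat_lit 0xf50000e90000c900005100006e00000000000600003e00000200001b)) (.leaf (nat_lit 0x1f50001f10001710000c500011200010d0001010000a90000a500009d00004100003500003100001100001600001a00004e00006e0000fa00014200013d00013900009600015a0001d20001d60001e600000200001f00007e000004000079))))))))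 (.node (.node (.node (.node (.node (.node (.node (.leaf (nat_lit 0x7000000000024000000000002000000)) (.leaf (nat_lit 0x82000004000080))) (.leaf (nat_lit 0x4200000300003e))) (.node (.node (.leaf (nat_lit 0x2200000200001f)) (.leaf (nat_lit 0x18600026900027d00028200001a000000000024000061000000000007))) (.leaf (nat_lit 0x62000004000061)))) (.node (.node (.node (.leaf (nat_lit 0x41000031000016000000000003000011000003000006)) (.leaf (nat_lit 0x1f20002350000c200000000002400005d000000000031))) (.leaf (nat_lit 0x1410000f900007200007500004500001500000d00000a00000600000e0000160000460000760000710000fa00014200013d00000100002100005000000200004f))) (.node (.leaf (nat_lit 0xc10000bd00008a000000000000000031000004000022)) (.leaf (nat_lit 0x1bd0001ad00019d00018d0001810000d100016e00000100000f00007000000100005b))))) (.node (.node (.node (.node (.leaf (nat_lit 0xa000004000009)) (.leaf (nat_lit 0x21e00022200021d0001b50001a90000fe0001010000a90000a60000a20000aa0001020000fd0001aa0001b600021e00022200021900000100002100006e000000000080)))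 (.leaf (nat_lit 0x4a000002000049))) (.node (.leaf (nat_lit 0x9d00004500002e00003d00002d00004600009e00000000000f000028000003000028)) (.leaf (nat_lit 0x6a000001000066)))) (.node (.node (.node (.leaf (nat_lit 0x61000059000022000000000003000019000003000009)) (.leaf (nat_lit 0xc600024900025d000019000000000024000022000000000006))) (.leaf (nat_lit 0x5a000003000030))) (.node (.leaf (nat_lit 0x3a000003000037)) (.leaf (nat_lit 0x1e10001dd0001da000001000003000079000002000076)))))) (.node (.node (.node (.node (.node (.leaf (nat_lit 0x6000002000004)) (.leaf (nat_lit 0x1f60001f90001e100021100017d00000000000900007c00000400005d))) (.leaf (nat_lit 0x46000001000042))) (.node (.leaf (nat_lit 0x26000002000025)) (.leaf (nat_lit 0x66000003000062)))) (.node (.node (.node (.leaf (nat_lit 0x5100004d00004a000000000003000015000003000013)) (.leaf (nat_lit 0x2520001b500023d0000fe00000000002400002d000000000040))) (.leaf (nat_lit 0x13200015100000000002400004c00000100004c)))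 (.node (.leaf (nat_lit 0xd10000cd0000ca000000000000000035000004000033)) (.leaf (nat_lit 0x76000001000074))))) (.node (.node (.node (.node (.leaf (nat_lit 0x3100000d00000900000e00003200000000000900000d00000400000d)) (.leaf (nat_lit 0x1f600022900016500000000002400007c000000000030))) (.leaf (nat_lit 0x13100012d00012200000000000000004d000004000049))) (.node (.leaf (nat_lit 0xb10000a90000a50000aa0000b200000000000900002d00000400002d)) (.leaf (nat_lit 0x6e00000300006a)))) (.node (.node (.node (.leaf (nat_lit 0x7100006900004d00001900004600000000000900001d000004000011)) (.leaf (nat_lit 0x19e00025a000272000059000000000024000064000000000008))) (.leaf (nat_lit 0x5e000003000031))) (.node (.leaf (nat_lit 0x3e00000100003a)) (.leaf (nat_lit 0x7e00000300007c))))))) (.node (.node (.node (.node (.node (.node (.leaf (nat_lit 0x4000004000000)) (.leaf (nat_lit 0x2090001e50001d50001d100015e0001da0001e600020a000004000015000082000003000082))) (.leaf (nat_lit 0x44000001000040)))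 (.node (.node (.leaf (nat_lit 0x2400000200000a)) (.leaf (nat_lit 0x2e00028a000000000024000006000001000007))) (.leaf (nat_lit 0x64000001000061)))) (.node (.node (.node (.leaf (nat_lit 0x14000003000007)) (.leaf (nat_lit 0x1a600023d0000ed000000000024000066000000000038))) (.leaf (nat_lit 0x12600014900008e000000000024000049000000000024))) (.node (.leaf (nat_lit 0x34000004000015)) (.leaf (nat_lit 0x74000004000073))))) (.node (.node (.node (.node (.leaf (nat_lit 0x2900001d00001900000100000000000b000001000006)) (.leaf (nat_lit 0x20200022600021e00000000002400006a000000000087))) (.leaf (nat_lit 0x4c000004000024))) (.node (.leaf (nat_lit 0xa900009d00007600000100000000002b00000100001d)) (.leaf (nat_lit 0x6c000001000068)))) (.node (.node (.node (.leaf (nat_lit 0x6900004d00001e00005a00005d00005900001d00004e00000100001b00001b000001000014)) (.leaf (nat_lit 0x1b10002560000b500000000002400006c00000000002d))) (.leaf (nat_lit 0x1690001650000bd0000560000ce00000100000900005b000003000034)))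 (.node (.leaf (nat_lit 0x3c000001000038)) (.leaf (nat_lit 0x7c00000200007b)))))) (.node (.node (.node (.node (.node (.leaf (nat_lit 0x8000001000007)) (.leaf (nat_lit 0x2190002010001b600000100000300008700000200006e))) (.leaf (nat_lit 0x48000002000020))) (.node (.leaf (nat_lit 0x28000001000011)) (.leaf (nat_lit 0x68000003000064)))) (.node (.node (.node (.leaf (nat_lit 0x5900002a00003d00002900005a000000000009000017000004000017)) (.leaf (nat_lit 0x24a000172000245000249000049000000000024000013000000000007))) (.leaf (nat_lit 0x58000001000057))) (.node (.leaf (nat_lit 0x38000002000037)) (.leaf (nat_lit 0x78000002000058))))) (.node (.node (.node (.node (.leaf (nat_lit 0x2d00001500001200003200003a00003100001600002e00000400001500000b00000300000b)) (.leaf (nat_lit 0x22d00022200022e0001a900000000002400006a00000000003c))) (.leaf (nat_lit 0x5000000300004f))) (.node (.leaf (nat_lit 0x30000004000013)) (.leaf (nat_lit 0x7000000300006c)))) (.node (.node (.node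 (.leaf (nat_lit 0x2000000400001f)) (.leaf (nat_lit 0x26a00018900026100006e00000000002400003300000000001b))) (.leaf (nat_lit 0x17900017500017200000000000300005f00000300005d))) (.node (.leaf (nat_lit 0x4000000300003c)) (.leaf (nat_lit 0x8000000100007e)))))))))

theorem sAL_s0 : stepsC Cfsg.Agent.O8C.PL [[0], [1], [2]] sAL_t 164 0 = true :=
  by decide +kernel

theorem sAL_ok : SeqOK Cfsg.Agent.O8C.PL [[0], [1], [2]] sAL_t 164 :=
  (seqOK_zero Cfsg.Agent.O8C.PL [[0], [1], [2]] sAL_t).step 164 sAL_s0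

theorem sAL_0 : InSub Cfsg.Agent.O8C.PL [[0], [1], [2]] [3, 1, 3, 0, 1, 3] :=
  sAL_ok.inSub (z := nat_lit 0xe00001600028d00001900001500000d) (by decide +kernel)

namespace AL
noncomputable def m0_0 : ℕ := nat_lit 0x20

noncomputable def m0_1 : ℕ := nat_lit 0x44

noncomputable def m0_2 : ℕ := nat_lit 0x20

noncomputable def net0 : Net := (.cons 2 m0_0 (.cons 1 m0_1 (.cons 2 m0_2 .nil)))

theorem ok0 : Net.ok 8 net0 = true :=
  by decide +kernel

noncomputable def m1_0 : ℕ := nat_lit 0x2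

noncomputable def m1_1 : ℕ := nat_lit 0x14

noncomputable def m1_2 : ℕ := nat_lit 0x2

noncomputable def net1 : Net := (.cons 2 m1_0 (.cons 1 m1_1 (.cons 2 m1_2 .nil)))

theorem ok1 : Net.ok 8 net1 = true :=
  by decide +kernel

noncomputable def m2_0 : ℕ := nat_lit 0x2

noncomputable def m2_1 : ℕ := nat_lit 0x2

noncomputable def m2_2 : ℕ := nat_lit 0x14

noncomputable def m2_3 : ℕ := nat_lit 0x2

noncomputable def m2_4 : ℕ := nat_lit 0x2

noncomputable def net2 : Net := (.cons 4 m2_0 (.cons 2 m2_1 (.cons 1 m2_2 (.cons 2 m2_3 (.cons 4 m2_4 .nil)))))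

theorem ok2 : Net.ok 8 net2 = true :=
  by decide +kernel

noncomputable def m3_0 : ℕ := nat_lit 0x5

noncomputable def net3 : Net := (.cons 1 m3_0 .nil)

theorem ok3 : Net.ok 8 net3 = true :=
  by decide +kernel

noncomputable def nets : List Net := [net0, net1, net2, net3]

noncomputable def act : Act := netAct' nets
noncomputable def π : ℕ → Equiv.Perm ℕ := netPerm nets

theorem spec : act.Spec 8 π :=
  spec_fast (netAct_spec (AllP.forall (p := fun t => Net.ok 8 t = true) ⟨ok0, ok1, ok2, ok3, trivial⟩))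

theorem out : ∀ k, 4 ≤ k → π k = 1 :=
  netPerm_out nets

theorem sat_inv_0 : invC Cfsg.Agent.O8C.AL.act Cfsg.Agent.O8C.PL.I 8 3 Cfsg.Agent.O8C.PL.inv.length [0, 1, 2] = true :=
  by decide +kernel

theorem sat_inv : ∀ k, Cfsg.Agent.O8C.AL.π (Cfsg.Agent.O8C.PL.I k) * Cfsg.Agent.O8C.AL.π k = 1 :=
  inv_of_checks Cfsg.Agent.O8C.AL.spec (K := 3) (by decide) Cfsg.Agent.O8C.AL.out [[0, 1, 2]] (by decide) ⟨sat_inv_0, trivial⟩

theorem sat_rel_0_0 : relsC Cfsg.Agent.O8C.AL.act Cfsg.Agent.O8C.PL.I 8 3 [[0, 3, 0, 3], [1, 2, 1, 2], [0, 1, 0, 1, 0, 1], [2, 3, 2, 3, 2, 3], [0, 1, 0, 1, 0, 2, 1, 2], [0, 2, 0, 2, 0, 2, 0, 2], [0, 2, 3, 2, 3, 2, 0, 3], [0, 1, 0, 2, 0, 1, 2, 0, 2], [0, 1, 2, 0, 1, 2, 0, 2, 1], [0, 2, 0, 2, 3, 2, 0, 2, 3], [0, 1, 3, 2, 0, 1, 3, 2, 0, 1, 3, 2, 0, 1, 3, 2, 0, 1, 3, 2, 0, 1, 3, 2, 0, 1, 3, 2], [1, 2, 3, 1, 2, 3, 2, 1, 3, 1, 2, 3, 1, 2, 3, 2, 1, 3]] [0, 1, 2] = true :=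
  by decide +kernel

theorem sat_rel_0 : ∀ r ∈ ([[0, 3, 0, 3], [1, 2, 1, 2], [0, 1, 0, 1, 0, 1], [2, 3, 2, 3, 2, 3], [0, 1, 0, 1, 0, 2, 1, 2], [0, 2, 0, 2, 0, 2, 0, 2], [0, 2, 3, 2, 3, 2, 0, 3], [0, 1, 0, 2, 0, 1, 2, 0, 2], [0, 1, 2, 0, 1, 2, 0, 2, 1], [0, 2, 0, 2, 3, 2, 0, 2, 3], [0, 1, 3, 2, 0, 1, 3, 2, 0, 1, 3, 2, 0, 1, 3, 2, 0, 1, 3, 2, 0, 1, 3, 2, 0, 1, 3, 2], [1, 2, 3, 1, 2, 3, 2, 1, 3, 1, 2, 3, 1, 2, 3, 2, 1, 3]] : List (List ℕ)), ev Cfsg.Agent.O8C.AL.π r = 1 :=
  rels_of_checks Cfsg.Agent.O8C.AL.spec (K := 3) (by decide) sat_inv _ [[0, 1, 2]] (by decide) ⟨sat_rel_0_0, trivial⟩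

theorem sat_rel : ∀ r ∈ ([[0, 3, 0, 3], [1, 2, 1, 2], [0, 1, 0, 1, 0, 1], [2, 3, 2, 3, 2, 3], [0, 1, 0, 1, 0, 2, 1, 2], [0, 2, 0, 2, 0, 2, 0, 2], [0, 2, 3, 2, 3, 2, 0, 3], [0, 1, 0, 2, 0, 1, 2, 0, 2], [0, 1, 2, 0, 1, 2, 0, 2, 1], [0, 2, 0, 2, 3, 2, 0, 2, 3], [0, 1, 3, 2, 0, 1, 3, 2, 0, 1, 3, 2, 0, 1, 3, 2, 0, 1, 3, 2, 0, 1, 3, 2, 0, 1, 3, 2], [1, 2, 3, 1, 2, 3, 2, 1, 3, 1, 2, 3, 1, 2, 3, 2, 1, 3]] : List (List ℕ)), ev Cfsg.Agent.O8C.AL.π r = 1 :=
  rels_join [[[0, 3, 0, 3], [1, 2, 1, 2], [0, 1, 0, 1, 0, 1], [2, 3, 2, 3, 2, 3], [0, 1, 0, 1, 0, 2, 1, 2], [0, 2, 0, 2, 0, 2, 0, 2], [0, 2, 3, 2, 3, 2, 0, 3], [0, 1, 0, 2, 0, 1, 2, 0, 2], [0, 1, 2, 0, 1, 2, 0, 2, 1], [0, 2, 0, 2, 3, 2, 0, 2, 3], [0, 1, 3, 2, 0, 1, 3, 2, 0, 1, 3, 2, 0, 1, 3, 2, 0, 1, 3, 2, 0, 1, 3, 2, 0, 1, 3, 2], [1, 2, 3, 1, 2, 3, 2, 1, 3, 1, 2, 3, 1, 2, 3, 2, 1, 3]]] ⟨sat_rel_0, trivial⟩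

theorem sat : Sat Cfsg.Agent.O8C.PL Cfsg.Agent.O8C.AL.π :=
  ⟨Cfsg.Agent.O8C.AL.out, sat_inv, sat_rel⟩

noncomputable def done_tr0 : ℕ := nat_lit 0x70

noncomputable def done_tr1 : ℕ := nat_lit 0x34

noncomputable def done_tr2 : ℕ := nat_lit 0xa

noncomputable def done_t0_0 : ℕ := nat_lit 0x39

noncomputable def done_t0_1 : ℕ := nat_lit 0x1e

noncomputable def done_t0_2 : ℕ := nat_lit 0

noncomputable def done_t1_0 : ℕ := nat_lit 0x3

noncomputable def done_t1_1 : ℕ := nat_lit 0x30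

noncomputable def done_t1_2 : ℕ := nat_lit 0x48

noncomputable def done_t2_0 : ℕ := nat_lit 0x7

noncomputable def done_t2_1 : ℕ := nat_lit 0

noncomputable def done_t2_2 : ℕ := nat_lit 0x48

noncomputable def done_t3_0 : ℕ := nat_lit 0x25

noncomputable def done_t3_1 : ℕ := nat_lit 0x50

noncomputable def done_t3_2 : ℕ := nat_lit 0x60

noncomputable def doneC : TC := ⟨Cfsg.Agent.O8C.PL, [[0], [1], [2], [3, 1, 3, 0, 1, 3]], 7, 8, 3, 3, [done_tr0, done_tr1, done_tr2],
  [[done_t0_0, done_t0_1, done_t0_2],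
   [done_t1_0, done_t1_1, done_t1_2],
   [done_t2_0, done_t2_1, done_t2_2],
   [done_t3_0, done_t3_1, done_t3_2]]⟩

theorem done_s : doneC.structC Cfsg.Agent.O8C.AL.act = true :=
  by decide +kernel

theorem done_c0_0 : doneC.coverC Cfsg.Agent.O8C.AL.act 0 true [] [(true, 0, 0, 0), (false, 2, 0, 2), (false, 2, 0, 6), (false, 0, 0, 1), (false, 27, 0, 4), (true, 3, 3, 0)] 0 (ones 7) = true :=
  by decide +kernel

theorem done_j0 : doneC.JustS Cfsg.Agent.O8C.AL.π 0 (ones 7) :=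
  TC.cover_step Cfsg.Agent.O8C.AL.spec done_s (TC.justS_zero 0) done_c0_0

theorem done_c1_0 : doneC.coverC Cfsg.Agent.O8C.AL.act 1 true [] [(true, 1, 0, 0), (false, 5, 0, 2), (false, 3, 0, 5), (false, 3, 0, 4), (false, 6, 1, 2), (false, 6, 1, 5)] 0 (ones 7) = true :=
  by decide +kernel

theorem done_j1 : doneC.JustS Cfsg.Agent.O8C.AL.π 1 (ones 7) :=
  TC.cover_step Cfsg.Agent.O8C.AL.spec done_s (TC.justS_zero 1) done_c1_0

theorem done_c2_0 : doneC.coverC Cfsg.Agent.O8C.AL.act 2 true [] [(true, 2, 0, 0), (false, 8, 0, 4), (false, 8, 0, 5), (false, 21, 3, 1), (false, 21, 3, 4)] 0 (ones 7) = true :=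
  by decide +kernel

theorem done_j2 : doneC.JustS Cfsg.Agent.O8C.AL.π 2 (ones 7) :=
  TC.cover_step Cfsg.Agent.O8C.AL.spec done_s (TC.justS_zero 2) done_c2_0

theorem done_c3_0 : doneC.coverC Cfsg.Agent.O8C.AL.act 3 true [] [(false, 11, 0, 1), (false, 11, 0, 3), (false, 0, 1, 5), (false, 9, 1, 1), (false, 9, 1, 2)] 0 (ones 7) = true :=
  by decide +kernel

theorem done_j3 : doneC.JustS Cfsg.Agent.O8C.AL.π 3 (ones 7) :=
  TC.cover_step Cfsg.Agent.O8C.AL.spec done_s (TC.justS_zero 3) done_c3_0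

theorem done : doneC.Done Cfsg.Agent.O8C.AL.π :=
  TC.done_of Cfsg.Agent.O8C.AL.spec sat done_s ⟨done_j0, done_j1, done_j2, done_j3, trivial⟩

end AL

theorem AL_l : AllP (InSub Cfsg.Agent.O8C.PL [[0], [1], [2]]) AL.doneC.loops :=
  ⟨inSub_of_mem (by decide), inSub_of_mem (by decide), inSub_of_mem (by decide), sAL_0, trivial⟩

theorem levL0_0 : levC val X.I 262143 [] [0] [[7], [9], [12], [10], [14], [11], [16]] [[6, 4], [6, 4, 1, 2, 0], [6, 1, 2], [6], [4, 2], [6, 3, 4, 2, 0], [5, 6, 3, 4, 2], [5, 6, 2, 0], [5, 6, 4, 2, 0], [6, 2], [6, 4, 2, 0], [3, 4, 2, 0], [2, 0], [5, 6], [5, 6, 1, 2, 0], [0], [1, 2], [5, 6, 4, 1, 2], [5, 6, 4, 0], [6, 3, 4, 0], [6, 3, 4, 1, 2], [3, 4], [3, 4, 1, 2, 0], [5, 6, 3, 4, 1, 2, 0], [5, 6, 3, 4, 0], [6, 4, 0], [6, 4, 1, 2], [1, 2, 0], [], [4, 0], [4, 1, 2, 0], [6, 3, 4], [6, 3, 4, 1, 2, 0], [5, 6, 0], [5, 6, 1, 2], [3, 4, 1, 2], [3, 4, 0], [6, 0], [6, 1, 2, 0], [4, 1, 2], [4], [5, 6, 3, 4], [5, 6, 3, 4, 1, 2], [5,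 6, 4], [5, 6, 4, 1, 2, 0], [3, 4, 2], [2], [5, 6, 3, 4, 2, 0], [5, 6, 4, 2], [4, 2, 0], [6, 2, 0], [5, 6, 2], [6, 4, 2], [6, 3, 4, 2]] 1 54 = true :=
  by decide +kernel

theorem levL0_1 : levC val X.I 262143 [[0]] [1] [[10], [9], [11], [15, 7, 14], [17, 7, 16], [13, 7, 12]] [[5], [1], [5, 1], []] 54 216 = true :=
  by decide +kernel

theorem levL0_2 : levC val X.I 262143 [[1], [0]] [2] [[11], [10], [15, 7, 14], [17, 7, 16], [9, 15, 7, 14, 9], [9, 17, 7, 16, 9]] [[1], [2], [2, 1], []] 216 864 = true :=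
  by decide +kernel

theorem levL0_3 : levC val X.I 262143 [[2], [1], [0]] [3] [[11], [17, 7, 16], [10, 17, 7, 16, 10], [9, 17, 7, 16, 9], [10, 9, 17, 7, 16, 9, 10], [15, 7, 14, 9, 15, 7, 14, 9]] [[], [5]] 864 1728 = true :=
  by decide +kernel

theorem levL0_4 : levC val X.I 262143 [[3], [2], [1], [0]] [4] [[11], [17, 7, 16], [10, 17, 7, 16, 10], [9, 17, 7, 16, 9], [10, 9, 17, 7, 16, 9, 10], [9, 15, 7, 14, 9, 15, 7, 14, 17, 7, 16, 15, 7, 14, 9, 15, 7, 14, 9]] [[], [0], [1, 0], [1]] 1728 6912 = true :=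
  by decide +kernel

theorem levL0_5 : levC val X.I 262143 [[4], [3], [2], [1], [0]] [5] [[17, 7, 16, 9, 17, 7, 16, 9], [10, 17, 7, 16, 10, 17, 7, 16], [10, 9, 17, 7, 16, 9, 10, 17, 7, 16], [17, 7, 16, 9, 15, 7, 14, 9, 15, 7, 14, 17, 7, 16, 15, 7, 14, 9, 15, 7, 14, 9]] [[], [0]] 6912 13824 = true :=
  by decide +kernel

theorem levL0 {G : Type*} [Group G] [Finite G] {t : ℕ → G × _} (o : Ov t m val X.I) (h : Gr (genOn t 262143)) :
    Lev t 262143 [[5], [4], [3], [2], [1], [0]] 13824 :=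
  ((((((lev_nil t 262143).step o h levL0_0).step o h levL0_1).step o h levL0_2).step o h levL0_3).step o h levL0_4).step o h levL0_5

def wsL0 : List (List ℕ) := [[9], [9, 12], [7], [18]]

theorem l1_0 : centC val 262143 [[5], [4], [3], [2], [1], [0]] [[8], [0], [1]] [[], [2, 0], [1, 0], [2, 1], [2, 1, 0], [1], [2], [0]] 13824 110592 = true :=
  by decide +kernel

theorem l2_0 : normC val X.I [266239, 262143] [[8], [0], [1], [2], [3], [4], [5], [10], [11]] wsL0 [[[0], [1], [2, 1], [3], [4, 3], [5], [6, 5], [7], [8]], [[0], [2, 1], [2], [4, 3], [4], [6, 5], [6], [7], [8]], [[0], [1, 0], [2], [3], [4], [5], [6], [7, 6], [8, 4]], [[1, 0], [1], [2], [3], [8, 4], [5], [7, 6], [7], [8]]] = true :=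
  by decide +kernel

theorem l3_0 : satC val X.I [266239, 262143] [subst wsL0 (powW [1, 2, 3, 1, 2, 3, 2, 1, 3] 2), subst wsL0 (powW [0, 1, 3, 2] 7)] PL wsL0 (List.replicate 12 []) = true :=
  by decide +kernel

theorem l4_0 : stepC val X.I 262143 19 wsL0 [[0], [1], [2]] [8] [[0, 1, 3], [3], [2, 1, 3], [1, 3], [2, 3], [0, 2, 1, 3], []] AL.doneC.n = true :=
  by decide +kernel

theorem l5_0 : subWC val X.I [262143] 275072 19 wsL0 [[], [], [], [], [], [], [], [2], [], [0], [], [], [0, 1], [1, 0], [], [], [], [], [3]] = true :=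
  by decide +kernel

theorem stL0 {G : Type*} [Group G] [Finite G] {z : G} {t : ℕ → G × Mo}
    (h : StB z t [266239, 262143] []) : Gr (genOn t 275072) := by
  have o := h.st
  have ct := h.co.ct o.toOv h.hz (levL0 o.toOv h.co.gr) h.card l1_0 (ts := [[8], [0], [1], [2], [3], [4], [5], [10], [11]]) (by decide +kernel)
  have hn := o.norm l2_0
  have o1 := (o.addK (ct.fpf o.toOv hn [0, 1, 3, 2] 7 (by decide +kernel))).addK
    (ct.pow o.toOv hn (k := 2) (by decide +kernel) [1, 2, 3, 1, 2, 3, 2, 1, 3] (by decide +kernel))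
  have o0 : St t m val X.I [262143] [] := ⟨o.toOv, o.gr.2, trivial⟩
  exact (o.toOv.step AL.done (o1.sat l3_0) h.co.gr AL_l l4_0).mono (o0.le_genW l5_0)

theorem levL1_0 : levC val X.I 262143 [] [0] [[7], [9], [12], [10], [14], [11], [16]] [[6, 4], [6, 4, 1, 2, 0], [6, 1, 2], [6], [4, 2], [6, 3, 4, 2, 0], [5, 6, 3, 4, 2], [5, 6, 2, 0], [5, 6, 4, 2, 0], [6, 2], [6, 4, 2, 0], [3, 4, 2, 0], [2, 0], [5, 6], [5, 6, 1, 2, 0], [0], [1, 2], [5, 6, 4, 1, 2], [5, 6, 4, 0], [6, 3, 4, 0], [6, 3, 4, 1, 2], [3, 4], [3, 4, 1, 2, 0], [5, 6, 3, 4, 1, 2, 0], [5, 6, 3, 4, 0], [6, 4, 0], [6, 4, 1, 2], [1, 2, 0], [], [4, 0], [4, 1, 2, 0], [6, 3, 4], [6, 3, 4, 1, 2, 0], [5, 6, 0], [5, 6, 1, 2], [3, 4, 1, 2], [3, 4, 0], [6, 0], [6, 1, 2, 0], [4, 1, 2], [4], [5, 6, 3, 4], [5, 6, 3, 4, 1, 2], [5, 6, 4], [5, 6, 4, 1, 2, 0], [3, 4, 2], [2], [5, 6, 3, 4, 2, 0], [5, 6, 4, 2], [4, 2, 0], [6, 2, 0], [5, 6, 2], [6, 4, 2], [6, 3, 4, 2]] 1 54 = true :=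
  by decide +kernel

theorem levL1_1 : levC val X.I 262143 [[0]] [2] [[10], [9], [11], [15, 7, 14], [17, 7, 16], [13, 7, 12]] [[0], [3], [3, 0], []] 54 216 = true :=
  by decide +kernel

theorem levL1_2 : levC val X.I 262143 [[2], [0]] [1] [[11], [9], [13, 7, 12], [17, 7, 16], [10, 13, 7, 12, 10], [10, 17, 7, 16, 10]] [[2], [1], [2, 1], []] 216 864 = true :=
  by decide +kernel

theorem levL1_3 : levC val X.I 262143 [[1], [2], [0]] [3] [[11], [17, 7, 16], [10, 17, 7, 16, 10], [9, 17, 7, 16, 9], [9, 10, 17, 7, 16, 10, 9], [13, 7, 12, 10, 13, 7, 12, 10]] [[], [5]] 864 1728 = true :=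
  by decide +kernel

theorem levL1_4 : levC val X.I 262143 [[3], [1], [2], [0]] [4] [[11], [17, 7, 16], [10, 17, 7, 16, 10], [9, 17, 7, 16, 9], [9, 10, 17, 7, 16, 10, 9], [10, 13, 7, 12, 10, 13, 7, 12, 17, 7, 16, 13, 7, 12, 10, 13, 7, 12, 10]] [[], [0], [1, 0], [1]] 1728 6912 = true :=
  by decide +kernel

theorem levL1_5 : levC val X.I 262143 [[4], [3], [1], [2], [0]] [6] [[17, 7, 16, 9, 17, 7, 16, 9], [10, 17, 7, 16, 10, 17, 7, 16], [9, 10, 17, 7, 16, 10, 9, 17, 7, 16], [10, 13, 7, 12, 10, 13, 7, 12, 17, 7, 16, 13, 7, 12, 10, 13, 7, 12, 10, 17, 7, 16]] [[], [1]] 6912 13824 = true :=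
  by decide +kernel

theorem levL1 {G : Type*} [Group G] [Finite G] {t : ℕ → G × _} (o : Ov t m val X.I) (h : Gr (genOn t 262143)) :
    Lev t 262143 [[6], [4], [3], [1], [2], [0]] 13824 :=
  ((((((lev_nil t 262143).step o h levL1_0).step o h levL1_1).step o h levL1_2).step o h levL1_3).step o h levL1_4).step o h levL1_5

def wsL1 : List (List ℕ) := [[10], [10, 14], [7], [18]]

theorem l1_1 : centC val 262143 [[6], [4], [3], [1], [2], [0]] [[8], [0], [2]] [[], [1, 0], [2, 1], [1], [2, 0], [2, 1, 0], [2], [0]] 13824 110592 = true :=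
  by decide +kernel

theorem l2_1 : normC val X.I [266239, 262143] [[8], [0], [2], [1], [3], [4], [6], [9], [11]] wsL1 [[[0], [1], [2, 1], [3], [4, 3], [5], [6, 5], [7], [8]], [[0], [2, 1], [2], [4, 3], [4], [6, 5], [6], [7], [8]], [[0], [1, 0], [2], [3], [4], [5], [6], [7, 6], [8, 4]], [[1, 0], [1], [2], [3], [8, 4], [5], [7, 6], [7], [8]]] = true :=
  by decide +kernel

theorem l3_1 : satC val X.I [266239, 262143] [subst wsL1 (powW [1, 2, 3, 1, 2, 3, 2, 1, 3] 2), subst wsL1 (powW [0, 1, 3, 2] 7)] PL wsL1 (List.replicate 12 []) = true :=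
  by decide +kernel

theorem l4_1 : stepC val X.I 262143 19 wsL1 [[0], [1], [2]] [8] [[3], [2, 1, 3], [2, 3], [0, 1, 3], [1, 3], [0, 2, 1, 3], []] AL.doneC.n = true :=
  by decide +kernel

theorem l5_1 : subWC val X.I [262143] 312448 19 wsL1 [[], [], [], [], [], [], [], [2], [], [], [0], [], [], [], [0, 1], [1, 0], [], [], [3]] = true :=
  by decide +kernel

theorem stL1 {G : Type*} [Group G] [Finite G] {z : G} {t : ℕ → G × Mo}
    (h : StB z t [266239, 262143] []) : Gr (genOn t 312448) := by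
  have o := h.st
  have ct := h.co.ct o.toOv h.hz (levL1 o.toOv h.co.gr) h.card l1_1 (ts := [[8], [0], [2], [1], [3], [4], [6], [9], [11]]) (by decide +kernel)
  have hn := o.norm l2_1
  have o1 := (o.addK (ct.fpf o.toOv hn [0, 1, 3, 2] 7 (by decide +kernel))).addK
    (ct.pow o.toOv hn (k := 2) (by decide +kernel) [1, 2, 3, 1, 2, 3, 2, 1, 3] (by decide +kernel))
  have o0 : St t m val X.I [262143] [] := ⟨o.toOv, o.gr.2, trivial⟩
  exact (o.toOv.step AL.done (o1.sat l3_1) h.co.gr AL_l l4_1).mono (o0.le_genW l5_1)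

theorem levL2_0 : levC val X.I 262143 [] [0] [[7], [9], [12], [10], [14], [11], [16]] [[6, 4], [6, 4, 1, 2, 0], [6, 1, 2], [6], [4, 2], [6, 3, 4, 2, 0], [5, 6, 3, 4, 2], [5, 6, 2, 0], [5, 6, 4, 2, 0], [6, 2], [6, 4, 2, 0], [3, 4, 2, 0], [2, 0], [5, 6], [5, 6, 1, 2, 0], [0], [1, 2], [5, 6, 4, 1, 2], [5, 6, 4, 0], [6, 3, 4, 0], [6, 3, 4, 1, 2], [3, 4], [3, 4, 1, 2, 0], [5, 6, 3, 4, 1, 2, 0], [5, 6, 3, 4, 0], [6, 4, 0], [6, 4, 1, 2], [1, 2, 0], [], [4, 0], [4, 1, 2, 0], [6, 3, 4], [6, 3, 4, 1, 2, 0], [5, 6, 0], [5, 6, 1, 2], [3, 4, 1, 2], [3, 4, 0], [6, 0], [6, 1, 2, 0], [4, 1, 2], [4], [5, 6, 3, 4], [5, 6, 3, 4, 1, 2], [5, 6, 4], [5, 6, 4, 1, 2, 0], [3, 4, 2], [2], [5, 6, 3, 4, 2, 0], [5, 6, 4, 2], [4, 2, 0], [6, 2, 0], [5, 6, 2], [6, 4, 2], [6, 3, 4, 2]] 1 54 = true :=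
  by decide +kernel

theorem levL2_1 : levC val X.I 262143 [[0]] [4] [[10], [9], [11], [15, 7, 14], [17, 7, 16], [13, 7, 12]] [[], [2], [4, 2], [4]] 54 216 = true :=
  by decide +kernel

theorem levL2_2 : levC val X.I 262143 [[4], [0]] [1] [[10], [9], [15, 7, 14], [13, 7, 12], [11, 13, 7, 12, 11], [11, 15, 7, 14, 11]] [[3], [1], [3, 1], []] 216 864 = true :=
  by decide +kernel

theorem levL2_3 : levC val X.I 262143 [[1], [4], [0]] [2] [[10], [15, 7, 14], [9, 15, 7, 14, 9], [11, 15, 7, 14, 11], [9, 11, 15, 7, 14, 11, 9], [11, 13, 7, 12, 11, 13, 7, 12]] [[0], [1], [1, 0], []] 864 3456 = true :=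
  by decide +kernel

theorem levL2_4 : levC val X.I 262143 [[2], [1], [4], [0]] [5] [[15, 7, 14, 9, 15, 7, 14, 9], [15, 7, 14, 11, 15, 7, 14, 11], [11, 13, 7, 12, 11, 13, 7, 12], [9, 11, 15, 7, 14, 11, 9, 15, 7, 14], [15, 7, 14, 11, 13, 7, 12, 11, 13, 7, 12, 15, 7, 14]] [[], [2]] 3456 6912 = true :=
  by decide +kernel

theorem levL2_5 : levC val X.I 262143 [[5], [2], [1], [4], [0]] [6] [[15, 7, 14, 9, 15, 7, 14, 9], [15, 7, 14, 11, 15, 7, 14, 11], [9, 11, 15, 7, 14, 11, 9, 15, 7, 14], [13, 7, 12, 11, 13, 7, 12, 11, 15, 7, 14, 11, 13, 7, 12, 11, 13, 7, 12, 15, 7, 14]] [[], [1]] 6912 13824 = true :=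
  by decide +kernel

theorem levL2 {G : Type*} [Group G] [Finite G] {t : ℕ → G × _} (o : Ov t m val X.I) (h : Gr (genOn t 262143)) :
    Lev t 262143 [[6], [5], [2], [1], [4], [0]] 13824 :=
  ((((((lev_nil t 262143).step o h levL2_0).step o h levL2_1).step o h levL2_2).step o h levL2_3).step o h levL2_4).step o h levL2_5

def wsL2 : List (List ℕ) := [[11], [11, 16], [7], [18]]

theorem l1_2 : centC val 262143 [[6], [5], [2], [1], [4], [0]] [[8], [0], [4]] [[2], [], [2, 1], [1, 0], [1], [2, 1, 0], [2, 0], [0]] 13824 110592 = true :=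
  by decide +kernel

theorem l2_2 : normC val X.I [266239, 262143] [[8], [0], [4], [1], [2], [5], [6], [9], [10]] wsL2 [[[0], [1], [2, 1], [3], [4], [5, 3], [6, 4], [7], [8]], [[0], [2, 1], [2], [5, 3], [6, 4], [5], [6], [7], [8]], [[0], [1, 0], [2], [3], [4], [5], [6], [7, 6], [8, 5]], [[1, 0], [1], [2], [3], [4], [8, 5], [7, 6], [7], [8]]] = true :=
  by decide +kernel

theorem l3_2 : satC val X.I [266239, 262143] [subst wsL2 (powW [1, 2, 3, 1, 2, 3, 2, 1, 3] 2), subst wsL2 (powW [0, 1, 3, 2] 7)] PL wsL2 (List.replicate 12 []) = true :=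
  by decide +kernel

theorem l4_2 : stepC val X.I 262143 19 wsL2 [[0], [1], [2]] [8] [[0, 2, 1, 3], [2, 1, 3], [3], [2, 3], [1, 3], [0, 1, 3], []] AL.doneC.n = true :=
  by decide +kernel

theorem l5_2 : subWC val X.I [262143] 460928 19 wsL2 [[], [], [], [], [], [], [], [2], [], [], [], [0], [], [], [], [], [0, 1], [1, 0], [3]] = true :=
  by decide +kernel

theorem stL2 {G : Type*} [Group G] [Finite G] {z : G} {t : ℕ → G × Mo}
    (h : StB z t [266239, 262143] []) : Gr (genOn t 460928) := by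
  have o := h.st
  have ct := h.co.ct o.toOv h.hz (levL2 o.toOv h.co.gr) h.card l1_2 (ts := [[8], [0], [4], [1], [2], [5], [6], [9], [10]]) (by decide +kernel)
  have hn := o.norm l2_2
  have o1 := (o.addK (ct.fpf o.toOv hn [0, 1, 3, 2] 7 (by decide +kernel))).addK
    (ct.pow o.toOv hn (k := 2) (by decide +kernel) [1, 2, 3, 1, 2, 3, 2, 1, 3] (by decide +kernel))
  have o0 : St t m val X.I [262143] [] := ⟨o.toOv, o.gr.2, trivial⟩
  exact (o.toOv.step AL.done (o1.sat l3_2) h.co.gr AL_l l4_2).mono (o0.le_genW l5_2)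

end Cfsg.Agent.O8C
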