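import Cfsg.Agent.O8C.Kx

set_option autoImplicit false
set_option Elab.async false
set_option maxRecDepth 100000

namespace Cfsg.Agent.O8C

open Cfsg.Agent.Comp.BN Cfsg.Agent.XSC Cfsg.Agent.TT Cfsg.Agent.LES Subgroup

theorem levV_0 : levC val X.I 262143 [] [0] [[7], [9], [12], [10], [14], [11], [16]] [[6, 4], [6, 4, 1, 2, 0], [6, 1, 2], [6], [4, 2], [6, 3, 4, 2, 0], [5, 6, 3, 4, 2], [5, 6, 2, 0], [5, 6, 4, 2, 0], [6, 2], [6, 4, 2, 0], [3, 4, 2, 0], [2, 0], [5, 6], [5, 6, 1, 2, 0], [0], [1, 2], [5, 6, 4, 1, 2], [5, 6, 4, 0], [6, 3, 4, 0], [6, 3, 4, 1, 2], [3, 4], [3, 4, 1, 2, 0], [5, 6, 3, 4, 1, 2, 0], [5, 6, 3, 4, 0], [6, 4, 0], [6, 4, 1, 2], [1, 2, 0], [], [4, 0], [4, 1, 2, 0], [6, 3, 4], [6, 3, 4, 1, 2, 0], [5, 6, 0], [5, 6, 1, 2], [3, 4, 1, 2], [3, 4, 0], [6, 0], [6, 1, 2, 0], [4, 1, 2], [4], [5, 6, 3, 4], [5, 6, 3, 4, 1, 2], [5, 6, 4], [5, 6, 4, 1, 2, 0], [3, 4, 2], [2], [5, 6, 3, 4, 2, 0], [5, 6, 4,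 2], [4, 2, 0], [6, 2, 0], [5, 6, 2], [6, 4, 2], [6, 3, 4, 2]] 1 54 = true :=
  by decide +kernel

theorem levV_1 : levC val X.I 262143 [[0]] [1] [[10], [9], [11], [15, 7, 14], [17, 7, 16], [13, 7, 12]] [[5], [1], [5, 1], []] 54 216 = true :=
  by decide +kernel

theorem levV_2 : levC val X.I 262143 [[1], [0]] [2] [[11], [10], [15, 7, 14], [17, 7, 16], [9, 15, 7, 14, 9], [9, 17, 7, 16, 9]] [[1], [2], [2, 1], []] 216 864 = true :=
  by decide +kernel

theorem levV_3 : levC val X.I 262143 [[2], [1], [0]] [4] [[11], [17, 7, 16], [10, 17, 7, 16, 10], [9, 17, 7, 16, 9], [10, 9, 17, 7, 16, 9, 10], [15, 7, 14, 9, 15, 7, 14, 9]] [[], [0], [1, 0], [1]] 864 3456 = true :=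
  by decide +kernel

theorem levV_4 : levC val X.I 262143 [[4], [2], [1], [0]] [3] [[15, 7, 14, 9, 15, 7, 14, 9], [17, 7, 16, 9, 17, 7, 16, 9], [10, 17, 7, 16, 10, 17, 7, 16], [11, 15, 7, 14, 9, 15, 7, 14, 9, 11], [17, 7, 16, 15, 7, 14, 9, 15, 7, 14, 9, 17, 7, 16]] [[], [0]] 3456 6912 = true :=
  by decide +kernel

theorem levV_5 : levC val X.I 262143 [[3], [4], [2], [1], [0]] [5] [[17, 7, 16, 9, 17, 7, 16, 9], [10, 17, 7, 16, 10, 17, 7, 16], [11, 15, 7, 14, 9, 15, 7, 14, 9, 11, 15, 7, 14, 9, 15, 7, 14, 9], [9, 15, 7, 14, 9, 15, 7, 14, 17, 7, 16, 15, 7, 14, 9, 15, 7, 14, 9, 17, 7, 16]] [[], [0]] 6912 13824 = true :=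
  by decide +kernel

theorem levV_6 : levC val X.I 262143 [[5], [3], [4], [2], [1], [0]] [6] [[10, 17, 7, 16, 10, 17, 7, 16], [11, 15, 7, 14, 9, 15, 7, 14, 9, 11, 15, 7, 14, 9, 15, 7, 14, 9], [9, 15, 7, 14, 9, 15, 7, 14, 17, 7, 16, 15, 7, 14, 9, 15, 7, 14, 9, 17, 7, 16]] [[], [0]] 13824 27648 = true :=
  by decide +kernel

theorem levV {G : Type*} [Group G] [Finite G] {t : ℕ → G × _} (o : Ov t m val X.I) (h : Gr (genOn t 262143)) :
    Lev t 262143 [[6], [5], [3], [4], [2], [1], [0]] 27648 :=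
  (((((((lev_nil t 262143).step o h levV_0).step o h levV_1).step o h levV_2).step o h levV_3).step o h levV_4).step o h levV_5).step o h levV_6

theorem v1 : centC val 262143 [[6], [5], [3], [4], [2], [1], [0]] [[8], [0]] [[], [1, 0], [1], [0]] 27648 110592 = true :=
  by decide +kernel

theorem v2 : normD val X.I [262143] Kx [[8], [0], [1], [2], [4], [3], [5], [6], [9], [10], [11]] [[7], [18]] [[[0], [1, 0], [2], [3], [4], [5], [6], [7], [8, 7], [9, 6], [10, 5]], [[0, 1], [1], [2], [3], [4], [10, 5], [9, 6], [8, 7], [8], [9], [10]]] = true :=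
  by decide +kernel

def PV : Pres := ⟨[0, 1, 2, 3, 4, 5, 6, 7, 8, 9, 10, 11, 12],
  [[7, 8, 7, 8],
   [7, 0, 7, 8, 0],
   [7, 1, 7, 1],
   [7, 2, 7, 2],
   [7, 4, 7, 4],
   [7, 3, 7, 3],
   [7, 5, 7, 5],
   [7, 6, 7, 6],
   [7, 9, 7, 6, 9],
   [7, 10, 7, 5, 10],
   [7, 11, 7, 3, 11],
   [12, 0, 12, 0],
   [12, 1, 12, 1],
   [12, 2, 12, 2],
   [12, 4, 12, 4],
   [12, 9, 12, 9],
   [12, 10, 12, 10],
   [12, 11, 12, 11],
   [12, 8, 12, 0, 8],
   [12, 6, 12, 6, 9],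
   [12, 5, 12, 5, 10],
   [12, 3, 12, 3, 11],
   [7, 12, 7, 12, 7, 12]]⟩

namespace AV
noncomputable def net0 : Net := .nil

theorem ok0 : Net.ok 3 net0 = true :=
  by decide +kernel

noncomputable def net1 : Net := .nil

theorem ok1 : Net.ok 3 net1 = true :=
  by decide +kernel

noncomputable def net2 : Net := .nil

theorem ok2 : Net.ok 3 net2 = true :=
  by decide +kernel

noncomputable def net3 : Net := .nil

theorem ok3 : Net.ok 3 net3 = true :=
  by decide +kernel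

noncomputable def net4 : Net := .nil

theorem ok4 : Net.ok 3 net4 = true :=
  by decide +kernel

noncomputable def net5 : Net := .nil

theorem ok5 : Net.ok 3 net5 = true :=
  by decide +kernel

noncomputable def net6 : Net := .nil

theorem ok6 : Net.ok 3 net6 = true :=
  by decide +kernel

noncomputable def m7_0 : ℕ := nat_lit 0x2

noncomputable def net7 : Net := (.cons 1 m7_0 .nil)

theorem ok7 : Net.ok 3 net7 = true :=
  by decide +kernel

noncomputable def net8 : Net := .nil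

theorem ok8 : Net.ok 3 net8 = true :=
  by decide +kernel

noncomputable def net9 : Net := .nil

theorem ok9 : Net.ok 3 net9 = true :=
  by decide +kernel

noncomputable def net10 : Net := .nil

theorem ok10 : Net.ok 3 net10 = true :=
  by decide +kernel

noncomputable def net11 : Net := .nil

theorem ok11 : Net.ok 3 net11 = true :=
  by decide +kernel

noncomputable def m12_0 : ℕ := nat_lit 0x1

noncomputable def net12 : Net := (.cons 1 m12_0 .nil)

theorem ok12 : Net.ok 3 net12 = true :=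
  by decide +kernel

noncomputable def nets : List Net := [net0, net1, net2, net3, net4, net5, net6, net7, net8, net9, net10, net11, net12]

noncomputable def act : Act := netAct' nets
noncomputable def π : ℕ → Equiv.Perm ℕ := netPerm nets

theorem spec : act.Spec 3 π :=
  spec_fast (netAct_spec (AllP.forall (p := fun t => Net.ok 3 t = true) ⟨ok0, ok1, ok2, ok3, ok4, ok5, ok6, ok7, ok8, ok9, ok10, ok11, ok12, trivial⟩))

theorem out : ∀ k, 13 ≤ k → π k = 1 :=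
  netPerm_out nets

theorem sat_inv_0 : invC Cfsg.Agent.O8C.AV.act Cfsg.Agent.O8C.PV.I 3 2 Cfsg.Agent.O8C.PV.inv.length [0, 1] = true :=
  by decide +kernel

theorem sat_inv : ∀ k, Cfsg.Agent.O8C.AV.π (Cfsg.Agent.O8C.PV.I k) * Cfsg.Agent.O8C.AV.π k = 1 :=
  inv_of_checks Cfsg.Agent.O8C.AV.spec (K := 2) (by decide) Cfsg.Agent.O8C.AV.out [[0, 1]] (by decide) ⟨sat_inv_0, trivial⟩

theorem sat_rel_0_0 : relsC Cfsg.Agent.O8C.AV.act Cfsg.Agent.O8C.PV.I 3 2 [[7, 8, 7, 8], [7, 0, 7, 8, 0], [7, 1, 7, 1], [7, 2, 7, 2], [7, 4, 7, 4], [7, 3, 7, 3], [7, 5, 7, 5], [7, 6, 7, 6], [7, 9, 7, 6, 9], [7, 10, 7, 5, 10], [7, 11, 7, 3, 11], [12, 0, 12, 0], [12, 1, 12, 1], [12, 2, 12, 2], [12, 4, 12, 4], [12, 9, 12, 9], [12, 10, 12, 10], [12, 11, 12, 11], [12, 8, 12, 0, 8], [12, 6, 12, 6, 9], [12, 5, 12, 5, 10], [12, 3, 12, 3, 11], [7, 12, 7, 12, 7, 12]] [0, 1] = true :=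
  by decide +kernel

theorem sat_rel_0 : ∀ r ∈ ([[7, 8, 7, 8], [7, 0, 7, 8, 0], [7, 1, 7, 1], [7, 2, 7, 2], [7, 4, 7, 4], [7, 3, 7, 3], [7, 5, 7, 5], [7, 6, 7, 6], [7, 9, 7, 6, 9], [7, 10, 7, 5, 10], [7, 11, 7, 3, 11], [12, 0, 12, 0], [12, 1, 12, 1], [12, 2, 12, 2], [12, 4, 12, 4], [12, 9, 12, 9], [12, 10, 12, 10], [12, 11, 12, 11], [12, 8, 12, 0, 8], [12, 6, 12, 6, 9], [12, 5, 12, 5, 10], [12, 3, 12, 3, 11], [7, 12, 7, 12, 7, 12]] : List (List ℕ)), ev Cfsg.Agent.O8C.AV.π r = 1 :=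
  rels_of_checks Cfsg.Agent.O8C.AV.spec (K := 2) (by decide) sat_inv _ [[0, 1]] (by decide) ⟨sat_rel_0_0, trivial⟩

theorem sat_rel : ∀ r ∈ ([[7, 8, 7, 8], [7, 0, 7, 8, 0], [7, 1, 7, 1], [7, 2, 7, 2], [7, 4, 7, 4], [7, 3, 7, 3], [7, 5, 7, 5], [7, 6, 7, 6], [7, 9, 7, 6, 9], [7, 10, 7, 5, 10], [7, 11, 7, 3, 11], [12, 0, 12, 0], [12, 1, 12, 1], [12, 2, 12, 2], [12, 4, 12, 4], [12, 9, 12, 9], [12, 10, 12, 10], [12, 11, 12, 11], [12, 8, 12, 0, 8], [12, 6, 12, 6, 9], [12, 5, 12, 5, 10], [12, 3, 12, 3, 11], [7, 12, 7, 12, 7, 12]] : List (List ℕ)), ev Cfsg.Agent.O8C.AV.π r = 1 :=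
  rels_join [[[7, 8, 7, 8], [7, 0, 7, 8, 0], [7, 1, 7, 1], [7, 2, 7, 2], [7, 4, 7, 4], [7, 3, 7, 3], [7, 5, 7, 5], [7, 6, 7, 6], [7, 9, 7, 6, 9], [7, 10, 7, 5, 10], [7, 11, 7, 3, 11], [12, 0, 12, 0], [12, 1, 12, 1], [12, 2, 12, 2], [12, 4, 12, 4], [12, 9, 12, 9], [12, 10, 12, 10], [12, 11, 12, 11], [12, 8, 12, 0, 8], [12, 6, 12, 6, 9], [12, 5, 12, 5, 10], [12, 3, 12, 3, 11], [7, 12, 7, 12, 7, 12]]] ⟨sat_rel_0, trivial⟩

theorem sat : Sat Cfsg.Agent.O8C.PV Cfsg.Agent.O8C.AV.π :=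
  ⟨Cfsg.Agent.O8C.AV.out, sat_inv, sat_rel⟩

noncomputable def done_tr0 : ℕ := nat_lit 0x2

noncomputable def done_tr1 : ℕ := nat_lit 0

noncomputable def done_tr2 : ℕ := nat_lit 0x2

noncomputable def done_tr3 : ℕ := nat_lit 0x6

noncomputable def done_t0_0 : ℕ := nat_lit 0x5

noncomputable def done_t0_1 : ℕ := nat_lit 0x6

noncomputable def done_t1_0 : ℕ := nat_lit 0x5

noncomputable def done_t1_1 : ℕ := nat_lit 0x6

noncomputable def done_t2_0 : ℕ := nat_lit 0x5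

noncomputable def done_t2_1 : ℕ := nat_lit 0x6

noncomputable def done_t3_0 : ℕ := nat_lit 0x5

noncomputable def done_t3_1 : ℕ := nat_lit 0x6

noncomputable def done_t4_0 : ℕ := nat_lit 0x5

noncomputable def done_t4_1 : ℕ := nat_lit 0x6

noncomputable def done_t5_0 : ℕ := nat_lit 0x5

noncomputable def done_t5_1 : ℕ := nat_lit 0x6

noncomputable def done_t6_0 : ℕ := nat_lit 0x5

noncomputable def done_t6_1 : ℕ := nat_lit 0x6

noncomputable def done_t7_0 : ℕ := nat_lit 0x3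

noncomputable def done_t7_1 : ℕ := nat_lit 0

noncomputable def done_t8_0 : ℕ := nat_lit 0x5

noncomputable def done_t8_1 : ℕ := nat_lit 0x6

noncomputable def done_t9_0 : ℕ := nat_lit 0x5

noncomputable def done_t9_1 : ℕ := nat_lit 0x6

noncomputable def done_t10_0 : ℕ := nat_lit 0x5

noncomputable def done_t10_1 : ℕ := nat_lit 0x6

noncomputable def done_t11_0 : ℕ := nat_lit 0x5

noncomputable def done_t11_1 : ℕ := nat_lit 0x6

noncomputable def done_t12_0 : ℕ := nat_lit 0x1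

noncomputable def done_t12_1 : ℕ := nat_lit 0x4

noncomputable def doneC : TC := ⟨Cfsg.Agent.O8C.PV, [[0], [1], [2], [3], [4], [5], [6], [7], [8], [9], [10], [11]], 3, 3, 2, 2, [done_tr0, done_tr1, done_tr2, done_tr3],
  [[done_t0_0, done_t0_1],
   [done_t1_0, done_t1_1],
   [done_t2_0, done_t2_1],
   [done_t3_0, done_t3_1],
   [done_t4_0, done_t4_1],
   [done_t5_0, done_t5_1],
   [done_t6_0, done_t6_1],
   [done_t7_0, done_t7_1],
   [done_t8_0, done_t8_1],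
   [done_t9_0, done_t9_1],
   [done_t10_0, done_t10_1],
   [done_t11_0, done_t11_1],
   [done_t12_0, done_t12_1]]⟩

theorem done_s : doneC.structC Cfsg.Agent.O8C.AV.act = true :=
  by decide +kernel

theorem done_c0_0 : doneC.coverC Cfsg.Agent.O8C.AV.act 0 true [] [(true, 0, 0, 0), (false, 33, 1, 0), (false, 3, 1, 1)] 0 (ones 3) = true :=
  by decide +kernel

theorem done_j0 : doneC.JustS Cfsg.Agent.O8C.AV.π 0 (ones 3) :=
  TC.cover_step Cfsg.Agent.O8C.AV.spec done_s (TC.justS_zero 0) done_c0_0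

theorem done_c1_0 : doneC.coverC Cfsg.Agent.O8C.AV.act 1 true [] [(true, 1, 0, 0), (false, 6, 1, 1), (false, 36, 1, 0)] 0 (ones 3) = true :=
  by decide +kernel

theorem done_j1 : doneC.JustS Cfsg.Agent.O8C.AV.π 1 (ones 3) :=
  TC.cover_step Cfsg.Agent.O8C.AV.spec done_s (TC.justS_zero 1) done_c1_0

theorem done_c2_0 : doneC.coverC Cfsg.Agent.O8C.AV.act 2 true [] [(true, 2, 0, 0), (false, 9, 1, 1), (false, 39, 1, 0)] 0 (ones 3) = true :=
  by decide +kernel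

theorem done_j2 : doneC.JustS Cfsg.Agent.O8C.AV.π 2 (ones 3) :=
  TC.cover_step Cfsg.Agent.O8C.AV.spec done_s (TC.justS_zero 2) done_c2_0

theorem done_c3_0 : doneC.coverC Cfsg.Agent.O8C.AV.act 3 true [] [(true, 3, 0, 0), (false, 15, 1, 1), (false, 63, 1, 0)] 0 (ones 3) = true :=
  by decide +kernel

theorem done_j3 : doneC.JustS Cfsg.Agent.O8C.AV.π 3 (ones 3) :=
  TC.cover_step Cfsg.Agent.O8C.AV.spec done_s (TC.justS_zero 3) done_c3_0

theorem done_c4_0 : doneC.coverC Cfsg.Agent.O8C.AV.act 4 true [] [(true, 4, 0, 0), (false, 12, 1, 1), (false, 42, 1, 0)] 0 (ones 3) = true :=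
  by decide +kernel

theorem done_j4 : doneC.JustS Cfsg.Agent.O8C.AV.π 4 (ones 3) :=
  TC.cover_step Cfsg.Agent.O8C.AV.spec done_s (TC.justS_zero 4) done_c4_0

theorem done_c5_0 : doneC.coverC Cfsg.Agent.O8C.AV.act 5 true [] [(true, 5, 0, 0), (false, 18, 1, 1), (false, 60, 1, 0)] 0 (ones 3) = true :=
  by decide +kernel

theorem done_j5 : doneC.JustS Cfsg.Agent.O8C.AV.π 5 (ones 3) :=
  TC.cover_step Cfsg.Agent.O8C.AV.spec done_s (TC.justS_zero 5) done_c5_0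

theorem done_c6_0 : doneC.coverC Cfsg.Agent.O8C.AV.act 6 true [] [(true, 6, 0, 0), (false, 21, 1, 1), (false, 57, 1, 0)] 0 (ones 3) = true :=
  by decide +kernel

theorem done_j6 : doneC.JustS Cfsg.Agent.O8C.AV.π 6 (ones 3) :=
  TC.cover_step Cfsg.Agent.O8C.AV.spec done_s (TC.justS_zero 6) done_c6_0

theorem done_c7_0 : doneC.coverC Cfsg.Agent.O8C.AV.act 7 true [] [(true, 7, 0, 0), (false, 23, 0, 2)] 0 (ones 3) = true :=
  by decide +kernel

theorem done_j7 : doneC.JustS Cfsg.Agent.O8C.AV.π 7 (ones 3) :=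
  TC.cover_step Cfsg.Agent.O8C.AV.spec done_s (TC.justS_zero 7) done_c7_0

theorem done_c8_0 : doneC.coverC Cfsg.Agent.O8C.AV.act 8 true [] [(true, 8, 0, 0), (false, 0, 1, 1), (false, 54, 1, 0)] 0 (ones 3) = true :=
  by decide +kernel

theorem done_j8 : doneC.JustS Cfsg.Agent.O8C.AV.π 8 (ones 3) :=
  TC.cover_step Cfsg.Agent.O8C.AV.spec done_s (TC.justS_zero 8) done_c8_0

theorem done_c9_0 : doneC.coverC Cfsg.Agent.O8C.AV.act 9 true [] [(true, 9, 0, 0), (false, 45, 1, 0), (false, 24, 1, 1)] 0 (ones 3) = true :=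
  by decide +kernel

theorem done_j9 : doneC.JustS Cfsg.Agent.O8C.AV.π 9 (ones 3) :=
  TC.cover_step Cfsg.Agent.O8C.AV.spec done_s (TC.justS_zero 9) done_c9_0

theorem done_c10_0 : doneC.coverC Cfsg.Agent.O8C.AV.act 10 true [] [(true, 10, 0, 0), (false, 48, 1, 0), (false, 27, 1, 1)] 0 (ones 3) = true :=
  by decide +kernel

theorem done_j10 : doneC.JustS Cfsg.Agent.O8C.AV.π 10 (ones 3) :=
  TC.cover_step Cfsg.Agent.O8C.AV.spec done_s (TC.justS_zero 10) done_c10_0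

theorem done_c11_0 : doneC.coverC Cfsg.Agent.O8C.AV.act 11 true [] [(true, 11, 0, 0), (false, 51, 1, 0), (false, 30, 1, 1)] 0 (ones 3) = true :=
  by decide +kernel

theorem done_j11 : doneC.JustS Cfsg.Agent.O8C.AV.π 11 (ones 3) :=
  TC.cover_step Cfsg.Agent.O8C.AV.spec done_s (TC.justS_zero 11) done_c11_0

theorem done_c12_0 : doneC.coverC Cfsg.Agent.O8C.AV.act 12 true [] [(false, 38, 0, 1), (false, 66, 1, 1)] 0 (ones 3) = true :=
  by decide +kernel

theorem done_j12 : doneC.JustS Cfsg.Agent.O8C.AV.π 12 (ones 3) :=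
  TC.cover_step Cfsg.Agent.O8C.AV.spec done_s (TC.justS_zero 12) done_c12_0

theorem done : doneC.Done Cfsg.Agent.O8C.AV.π :=
  TC.done_of Cfsg.Agent.O8C.AV.spec sat done_s ⟨done_j0, done_j1, done_j2, done_j3, done_j4, done_j5, done_j6, done_j7, done_j8, done_j9, done_j10, done_j11, done_j12, trivial⟩

end AV

theorem AV_l : AllP (InSub Cfsg.Agent.O8C.PV [[0], [1], [2], [3], [4], [5], [6], [7], [8], [9], [10], [11]]) AV.doneC.loops :=
  ⟨inSub_of_mem (by decide), inSub_of_mem (by decide), inSub_of_mem (by decide), inSub_of_mem (by decide), inSub_of_mem (by decide), inSub_of_mem (by decide), inSub_of_mem (by decide), inSub_of_mem (by decide), inSub_of_mem (by decide), inSub_of_mem (by decide), inSub_of_mem (by decide), inSub_of_mem (by decide), trivial⟩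

def wsV : List (List ℕ) := [[0], [1], [2], [3], [4], [5], [6], [7], [8], [9], [10], [11], [18]]

theorem v3 : satC val X.I [262143] (subst [[7], [18]] (powW [0, 1] 3) :: Kx) PV wsV (List.replicate 23 []) = true :=
  by decide +kernel

theorem v4 : stepC val X.I 262143 19 wsV [[0], [1], [2], [3], [4], [5], [6], [7], [8], [9], [10], [11]] [8] [[12], [7, 12], []] AV.doneC.n = true :=
  by decide +kernel

theorem v5 : subWC val X.I [] 266239 19 wsV [[0], [1], [2], [3], [4], [5], [6], [7], [8], [9], [10], [11], [], [], [], [], [], [], [12]] = true :=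
  by decide +kernel

theorem stV {G : Type*} [Group G] [Finite G] {z : G} {t : ℕ → G × Mo}
    (h : StB z t [262143] Kx) : StB z t [266239, 262143] [] := by
  have o := h.st
  have ct := h.co.ct o.toOv h.hz (levV o.toOv h.co.gr) h.card v1 (ts := [[8], [0], [1], [2], [4], [3], [5], [6], [9], [10], [11]]) (by decide +kernel)
  have o1 := o.addK (ct.fpf o.toOv (normD_spec o v2) [0, 1] 3 (by decide +kernel))
  have o0 : St t m val X.I [] [] := ⟨o.toOv, trivial, trivial⟩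
  exact ⟨⟨o.toOv, ⟨(o.toOv.step AV.done (o1.sat v3) h.co.gr AV_l v4).mono (o0.le_genW v5), o.gr⟩,
    trivial⟩, h.card, h.co, h.hz, h.ne⟩

end Cfsg.Agent.O8C
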